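import Mathlib
import Cfsg.Agent.Blocks.TwoMember.LocalAlgebra

/-!
# Small local symmetric algebras

A local symmetric algebra whose centre has dimension at most four is commutative, hence of
dimension at most four.
-/

set_option autoImplicit false
set_option linter.unusedSectionVars false
set_option linter.style.haveILetI false

namespace Cfsg.Lib.Blocks.RankOneSmall

open Module Cfsg.Lib.Blocks.TwoMember
open scoped Pointwise

variable {k R : Type*} [Field k] [Ring R] [Algebra k R]

/-- An associative product of two generators with a non-symmetric one-dimensional square has zero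
cube. -/
theorem scalar_cube_eq_zero (B : Fin 2 → Fin 2 → k) (a b : Fin 2 → k) (hB : B 0 1 - B 1 0 = 1)
    (h : ∀ u v t, B u v * b t = B v t * a u) : (∀ i, a i = 0) ∧ ∀ i, b i = 0 := by
  constructor
  · intro i
    have h1 := h i 0 1
    have h2 := h i 1 0
    have h3 := h i i 0
    have h4 := h i i 1
    have : a i * a i = 0 := by
      linear_combination (-(a i) * a i) * hB - a i * h1 + a i * h2 + (-b 1) * h3 + b 0 * h4
    exact mul_self_eq_zero.1 this
  · intro t
    have h1 := h 0 1 t
    have h2 := h 1 0 t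
    have h3 := h 1 t t
    have h4 := h 0 t t
    have : b t * b t = 0 := by
      linear_combination (-(b t) * b t) * hB + b t * h1 - b t * h2 + a 0 * h3 - a 1 * h4
    exact mul_self_eq_zero.1 this

section Filtration

variable [FiniteDimensional k R] (N : Submodule k R)

/-- The span of the commutators of a subspace. -/
def commOf : Submodule k R := Submodule.span k {c | ∃ x ∈ N, ∃ y ∈ N, c = x * y - y * x}

theorem comm_mem_commOf {x y : R} (hx : x ∈ N) (hy : y ∈ N) : x * y - y * x ∈ commOf N :=
  Submodule.subset_span ⟨x, hx, y, hy, rfl⟩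

theorem commOf_le : commOf N ≤ N * N := Submodule.span_le.2 <| by
  rintro _ ⟨x, hx, y, hy, rfl⟩
  exact (N * N).sub_mem (Submodule.mul_mem_mul hx hy) (Submodule.mul_mem_mul hy hx)

/-- Generated by one element modulo the square: commuting. -/
theorem commOf_eq_bot_of_cyclic (hN2 : N * N ≤ N)
    (hnil : ∀ S : Submodule k R, S ≤ N → S ≤ N * S ⊔ S * N → S = ⊥)
    {η : R} (hη : η ∈ N) (hgen : ∀ x ∈ N, ∃ c : k, x - c • η ∈ N * N) : commOf N = ⊥ := by
  refine hnil _ ((commOf_le N).trans hN2) ?_
  set T := N * commOf N ⊔ commOf N * N with hT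
  have h2 : ∀ x ∈ N * N, ∀ y ∈ N, x * y - y * x ∈ T := by
    intro x hx y hy
    refine Submodule.mul_induction_on hx (fun a ha b hb => ?_) fun a b ha hb => ?_
    · rw [show a * b * y - y * (a * b) = a * (b * y - y * b) + (a * y - y * a) * b by noncomm_ring]
      exact add_mem (Submodule.mem_sup_left (Submodule.mul_mem_mul ha (comm_mem_commOf N hb hy)))
        (Submodule.mem_sup_right (Submodule.mul_mem_mul (comm_mem_commOf N ha hy) hb))
    · rw [show (a + b) * y - y * (a + b) = (a * y - y * a) + (b * y - y * b) by noncomm_ring]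
      exact add_mem ha hb
  refine Submodule.span_le.2 ?_
  rintro _ ⟨x, hx, y, hy, rfl⟩
  obtain ⟨c, hc⟩ := hgen x hx
  obtain ⟨c', hc'⟩ := hgen y hy
  have e1 := h2 _ hc y hy
  have e2 := h2 _ hc' η hη
  have : x * y - y * x =
      ((x - c • η) * y - y * (x - c • η)) - c • ((y - c' • η) * η - η * (y - c' • η)) := by
    simp only [sub_mul, mul_sub, smul_mul_assoc, mul_smul_comm, smul_sub, smul_smul]
    abel
  show x * y - y * x ∈ T
  rw [this]
  exact sub_mem e1 (Submodule.smul_mem _ _ e2)

/-- Subspaces of corank at most two. -/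
theorem commOf_eq_bot (hN2 : N * N ≤ N)
    (hnil : ∀ S : Submodule k R, S ≤ N → S ≤ N * S ⊔ S * N → S = ⊥)
    (hsize : finrank k N ≤ finrank k (commOf N) + 3)
    (τ : R →ₗ[k] k) (hτc : ∀ x ∈ commOf N, τ x = 0)
    (hnd : ∀ z ∈ N, τ z = 0 → (∀ a ∈ N, τ (z * a) = 0) → z = 0) : commOf N = ⊥ := by
  classical
  have hN3 : N * N * N ≤ N * N :=
    Submodule.mul_le.2 fun x hx y hy => Submodule.mul_mem_mul (hN2 hx) hy
  -- a subspace killed by the functional, together with its translates, vanishes
  have hzero : (∀ x ∈ N * N, τ x = 0) → commOf N = ⊥ := by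
    intro h
    refine le_bot_iff.1 ((commOf_le N).trans ?_)
    intro z hz
    rw [Submodule.mem_bot]
    exact hnd z (hN2 hz) (h z hz) fun a ha => h _ (hN3 (Submodule.mul_mem_mul hz ha))
  by_cases hA : ∃ η ∈ N, ∀ x ∈ N, ∃ c : k, x - c • η ∈ N * N
  · obtain ⟨η, hη, hgen⟩ := hA
    exact commOf_eq_bot_of_cyclic N hN2 hnil hη hgen
  push Not at hA
  -- two independent generators
  obtain ⟨x, hx, hx2⟩ := hA 0 N.zero_mem
  obtain ⟨y, hy, hy2⟩ := hA x hx
  set U := N * N ⊔ Submodule.span k {x} with hU
  set V := U ⊔ Submodule.span k {y} with hV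
  have hUN : U ≤ N := sup_le hN2 (Submodule.span_le.2 (by simpa using hx))
  have hVN : V ≤ N := sup_le hUN (Submodule.span_le.2 (by simpa using hy))
  have hlt1 : N * N < U := lt_of_le_of_ne le_sup_left fun h => hx2 0 (by
    rw [zero_smul, sub_zero]
    have hm : x ∈ U := Submodule.mem_sup_right (Submodule.mem_span_singleton_self x)
    rwa [← h] at hm)
  have hlt2 : U < V := lt_of_le_of_ne le_sup_left fun h => by
    have : y ∈ U := h ▸ Submodule.mem_sup_right (Submodule.mem_span_singleton_self y)
    obtain ⟨a, ha, b, hb, rfl⟩ := Submodule.mem_sup.1 this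
    obtain ⟨c, rfl⟩ := Submodule.mem_span_singleton.1 hb
    exact hy2 c (by simpa using ha)
  have d1 := Submodule.finrank_lt_finrank_of_lt hlt1
  have d2 := Submodule.finrank_lt_finrank_of_lt hlt2
  have d3 := Submodule.finrank_mono hVN
  have d4 := Submodule.finrank_mono (commOf_le N)
  by_cases hV3 : finrank k (commOf N) = finrank k (N * N : Submodule k R)
  · refine hzero fun z hz => hτc z ?_
    rwa [Submodule.eq_of_le_of_finrank_eq (commOf_le N) hV3]
  have hgen : V = N := Submodule.eq_of_le_of_finrank_le hVN (by omega)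
  have hco : finrank k (N * N : Submodule k R) ≤ finrank k (commOf N) + 1 := by omega
  have hdec : ∀ u ∈ N, ∃ c c' : k, u - c • x - c' • y ∈ N * N := by
    intro u hu
    rw [← hgen] at hu
    obtain ⟨a, ha, b, hb, rfl⟩ := Submodule.mem_sup.1 hu
    obtain ⟨a1, ha1, a2, ha2, rfl⟩ := Submodule.mem_sup.1 ha
    obtain ⟨c', rfl⟩ := Submodule.mem_span_singleton.1 hb
    obtain ⟨c, rfl⟩ := Submodule.mem_span_singleton.1 ha2
    exact ⟨c, c', by convert ha1 using 1; abel⟩
  set w := x * y - y * x with hw
  set N3 := N * N * N with hN3def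
  have hassoc : N3 = N * (N * N) := mul_assoc _ _ _
  have hCw : commOf N ≤ Submodule.span k {w} ⊔ N3 := Submodule.span_le.2 <| by
    rintro _ ⟨u, hu, v, hv, rfl⟩
    obtain ⟨a, a', ha⟩ := hdec u hu
    obtain ⟨b, b', hb⟩ := hdec v hv
    set u' := u - a • x - a' • y with hu'
    set v' := v - b • x - b' • y with hv'
    have e : u * v - v * u = (a * b' - a' * b) • w + ((u' * v - v * u') +
        (a • (x * v' - v' * x) + a' • (y * v' - v' * y))) := by
      rw [hu', hv', hw]
      simp only [sub_mul, mul_sub, smul_mul_assoc, mul_smul_comm, smul_sub, smul_smul, sub_smul,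
        mul_comm b a, mul_comm b' a', mul_comm b a', mul_comm b' a]
      abel
    have l1 : ∀ p ∈ N * N, ∀ q ∈ N, p * q - q * p ∈ N3 := fun p hp q hq =>
      N3.sub_mem (Submodule.mul_mem_mul hp hq) (hassoc ▸ Submodule.mul_mem_mul hq hp)
    show u * v - v * u ∈ _
    rw [e]
    refine add_mem (Submodule.mem_sup_left (Submodule.smul_mem _ _ (Submodule.mem_span_singleton_self w)))
      (Submodule.mem_sup_right (add_mem (l1 _ ha v hv) (add_mem (N3.smul_mem _ ?_) (N3.smul_mem _ ?_))))
    · rw [← neg_sub]; exact N3.neg_mem (l1 _ hb x hx)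
    · rw [← neg_sub]; exact N3.neg_mem (l1 _ hb y hy)
  by_cases hfull : commOf N ⊔ N3 = N * N
  swap
  · -- the cube is killed by the functional
    have hlt : commOf N ⊔ N3 < N * N := lt_of_le_of_ne (sup_le (commOf_le N) hN3) hfull
    have d5 := Submodule.finrank_lt_finrank_of_lt hlt
    have heq : commOf N = commOf N ⊔ N3 := Submodule.eq_of_le_of_finrank_le le_sup_left (by omega)
    have h3 : ∀ z ∈ N3, τ z = 0 := fun z hz => hτc z (heq ▸ Submodule.mem_sup_right hz)
    refine le_bot_iff.1 fun z hz => (Submodule.mem_bot k).2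
      (hnd z (hN2 (commOf_le N hz)) (hτc z hz) fun a ha => h3 _ (Submodule.mul_mem_mul (commOf_le N hz) ha))
  have hwN : w ∈ N * N := commOf_le N (comm_mem_commOf N hx hy)
  have hNN : N * N ≤ Submodule.span k {w} ⊔ N3 := hfull ▸ sup_le hCw le_sup_right
  let g : Fin 2 → R := ![x, y]
  have hg : ∀ i, g i ∈ N := fun i => by fin_cases i <;> assumption
  have hBex : ∀ u v : Fin 2, ∃ c : k, g u * g v - c • w ∈ N3 := fun u v => by
    obtain ⟨a, ha, b, hb, hab⟩ := Submodule.mem_sup.1 (hNN (Submodule.mul_mem_mul (hg u) (hg v)))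
    obtain ⟨c, rfl⟩ := Submodule.mem_span_singleton.1 ha
    exact ⟨c, by rw [← hab, add_sub_cancel_left]; exact hb⟩
  choose B hB using hBex
  set N4 := N * N3 ⊔ N3 * N with hN4
  by_cases hw3 : w ∈ N3
  · have heq : N * N = N3 := le_antisymm
      (hNN.trans (sup_le (Submodule.span_le.2 (by simpa using hw3)) le_rfl)) hN3
    have h0 : N * N = ⊥ := hnil _ hN2 ((le_of_eq (heq.trans hassoc)).trans le_sup_left)
    exact le_bot_iff.1 ((commOf_le N).trans (le_of_eq h0))
  have hB01 : B 0 1 - B 1 0 = 1 := by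
    by_contra h
    have h1 := N3.sub_mem (hB 0 1) (hB 1 0)
    have h2 : g 0 * g 1 - B 0 1 • w - (g 1 * g 0 - B 1 0 • w) = (1 - (B 0 1 - B 1 0)) • w := by
      rw [show g 0 = x from rfl, show g 1 = y from rfl, sub_smul, sub_smul, one_smul, hw]
      abel
    rw [h2] at h1
    exact hw3 ((N3.smul_mem_iff (sub_ne_zero.2 (Ne.symm h))).1 h1)
  have hprod : ∀ u : Fin 2, g u * w ∈ N4 ∧ w * g u ∈ N4 := by
    intro u
    have key : ∀ f : Module.Dual k (R ⧸ N4), f (Submodule.Quotient.mk (g u * w)) = 0 ∧
        f (Submodule.Quotient.mk (w * g u)) = 0 := by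
      intro f
      set F : R →ₗ[k] k := f.comp N4.mkQ with hF
      have hF0 : ∀ z ∈ N4, F z = 0 := fun z hz => by
        show f (Submodule.Quotient.mk z) = 0
        rw [(Submodule.Quotient.mk_eq_zero N4).2 hz, map_zero]
      have := scalar_cube_eq_zero B (fun i => F (g i * w)) (fun i => F (w * g i)) hB01 (fun i j t => by
        have l := hF0 _ (Submodule.mem_sup_right (Submodule.mul_mem_mul (hB i j) (hg t)))
        have r := hF0 _ (Submodule.mem_sup_left (Submodule.mul_mem_mul (hg i) (hB j t)))
        simp only [sub_mul, mul_sub, map_sub, smul_mul_assoc, mul_smul_comm, map_smul, smul_eq_mul,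
          mul_assoc] at l r
        linear_combination r - l)
      exact ⟨this.1 u, this.2 u⟩
    exact ⟨(Submodule.Quotient.mk_eq_zero N4).1
        ((Module.forall_dual_apply_eq_zero_iff k _).1 fun f => (key f).1),
      (Submodule.Quotient.mk_eq_zero N4).1
        ((Module.forall_dual_apply_eq_zero_iff k _).1 fun f => (key f).2)⟩
  have hNw : ∀ a ∈ N, a * w ∈ N4 ∧ w * a ∈ N4 := by
    intro a ha
    obtain ⟨c, c', hc⟩ := hdec a ha
    obtain ⟨q1, q2⟩ := hprod 0
    obtain ⟨r1, r2⟩ := hprod 1
    have f1 : (a - c • x - c' • y) * w ∈ N4 := by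
      refine Submodule.mem_sup_left ?_
      rw [hassoc, ← mul_assoc N N]
      exact Submodule.mul_mem_mul hc hwN
    have f2 : w * (a - c • x - c' • y) ∈ N4 := by
      refine Submodule.mem_sup_left ?_
      rw [hassoc, ← mul_assoc N N]
      exact Submodule.mul_mem_mul hwN hc
    constructor
    · rw [show a * w = (a - c • x - c' • y) * w + (c • (g 0 * w) + c' • (g 1 * w)) by
        rw [show g 0 = x from rfl, show g 1 = y from rfl]
        simp only [sub_mul, smul_mul_assoc]; abel]
      exact add_mem f1 (add_mem (N4.smul_mem _ q1) (N4.smul_mem _ r1))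
    · rw [show w * a = w * (a - c • x - c' • y) + (c • (w * g 0) + c' • (w * g 1)) by
        rw [show g 0 = x from rfl, show g 1 = y from rfl]
        simp only [mul_sub, mul_smul_comm]; abel]
      exact add_mem f2 (add_mem (N4.smul_mem _ q2) (N4.smul_mem _ r2))
  have h30 : N3 = ⊥ := by
    refine hnil _ (hN3.trans hN2) ?_
    show N3 ≤ N4
    rw [hassoc]
    refine Submodule.mul_le.2 fun a ha z hz => ?_
    obtain ⟨s, hs, t, ht, rfl⟩ := Submodule.mem_sup.1 (hNN hz)
    obtain ⟨c, rfl⟩ := Submodule.mem_span_singleton.1 hs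
    rw [mul_add, mul_smul_comm]
    exact add_mem (N4.smul_mem _ (hNw a ha).1) (Submodule.mem_sup_left (Submodule.mul_mem_mul ha ht))
  refine hzero fun z hz => ?_
  rw [h30, sup_bot_eq] at hNN
  obtain ⟨c, rfl⟩ := Submodule.mem_span_singleton.1 (hNN hz)
  rw [map_smul, hτc w (comm_mem_commOf N hx hy), smul_zero]

end Filtration

end Cfsg.Lib.Blocks.RankOneSmall
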