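import Mathlib
import Cfsg.Agent.Blocks.RankOneSmall.Algebra

/-!
# Local symmetric algebras with a centre generated by one element

If the radical of a local symmetric algebra contains a central element whose powers fill the
quotient by the commutators, then the algebra is commutative.
-/

set_option autoImplicit false
set_option linter.unusedSectionVars false

namespace Cfsg.Lib.Blocks.RankOneSmall

open Module
open scoped Pointwise

variable {k R : Type*} [Field k] [Ring R] [Algebra k R] [FiniteDimensional k R]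

/-- Powers are independent modulo a subspace stable under the element. -/
theorem powers_indep {S : Submodule k R} {w : R} (hS : ∀ x ∈ S, x * w ∈ S) {m : ℕ}
    (hm : w ^ m ∉ S) (hz : w ^ (m + 1) = 0) (a : Fin m → k)
    (ha : ∑ j, a j • w ^ ((j : ℕ) + 1) ∈ S) : ∀ i, a i = 0 := by
  classical
  have hpow : ∀ n, ∀ x ∈ S, x * w ^ n ∈ S := fun n => by
    induction n with
    | zero => intro x hx; rwa [pow_zero, mul_one]
    | succ n ih => intro x hx; rw [pow_succ, ← mul_assoc]; exact hS _ (ih x hx)
  intro i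
  induction hi : (i : ℕ) using Nat.strong_induction_on generalizing i with
  | _ n ih =>
  subst hi
  have h := hpow (m - ((i : ℕ) + 1)) _ ha
  rw [Finset.sum_mul, Finset.sum_eq_single i (fun j _ hji => ?_) (by simp), smul_mul_assoc,
    ← pow_add, Nat.add_sub_cancel' i.2] at h
  · by_contra hai
    exact hm (by simpa [smul_smul, inv_mul_cancel₀ hai] using S.smul_mem (a i)⁻¹ h)
  · rcases lt_or_gt_of_ne (fun h => hji (Fin.ext h) : (j : ℕ) ≠ i) with h' | h'
    · rw [ih j h' j rfl, zero_smul, zero_mul]
    · rw [smul_mul_assoc, ← pow_add, pow_eq_zero_of_le (by omega) hz, smul_zero]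

variable (N : Submodule k R)

/-- **A long central chain forces commutativity.** -/
theorem commOf_eq_bot_of_central (hN2 : N * N ≤ N)
    (hnil : ∀ S : Submodule k R, S ≤ N → S ≤ N * S ⊔ S * N → S = ⊥)
    (τ : R →ₗ[k] k) (hτc : ∀ x ∈ commOf N, τ x = 0)
    (hnd : ∀ z ∈ N, τ z = 0 → (∀ a ∈ N, τ (z * a) = 0) → z = 0)
    {w : R} (hw : w ∈ N) (hwc : ∀ a ∈ N, w * a = a * w) (hwn : IsNilpotent w) {m : ℕ}
    (hm : 1 ≤ m) (hwm : w ^ m ≠ 0) (hsize : finrank k N ≤ finrank k (commOf N) + m) :
    commOf N = ⊥ := by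
  classical
  have hCA : commOf N ≤ N := (commOf_le N).trans hN2
  -- the powers lie in the radical
  have hpw : ∀ j, w ^ (j + 1) ∈ N := fun j => by
    induction j with
    | zero => rwa [pow_one]
    | succ j ih => rw [pow_succ]; exact hN2 (Submodule.mul_mem_mul ih hw)
  have hpc : ∀ j, ∀ a ∈ N, w ^ j * a = a * w ^ j := fun j a ha => (Commute.pow_left (hwc a ha) j).eq
  have hCw : ∀ z ∈ N, (∀ a ∈ N, z * a = a * z) → ∀ x ∈ commOf N, x * z ∈ commOf N := fun z hz hzc => by
    intro x hx
    induction hx using Submodule.span_induction with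
    | mem x hx =>
      obtain ⟨a, ha, b, hb, rfl⟩ := hx
      rw [show (a * b - b * a) * z = (a * z) * b - b * (a * z) by
        rw [sub_mul, mul_assoc a b, ← hzc b hb, mul_assoc b a, ← mul_assoc a]]
      exact comm_mem_commOf N (hN2 (Submodule.mul_mem_mul ha hz)) hb
    | zero => rw [zero_mul]; exact zero_mem _
    | add x y _ _ hx hy => rw [add_mul]; exact add_mem hx hy
    | smul c x _ hx => rw [smul_mul_assoc]; exact Submodule.smul_mem _ c hx
  -- an annihilated element
  obtain ⟨x, hxN, hx0, hxl, hxr⟩ : ∃ x ∈ N, x ≠ 0 ∧ (∀ a ∈ N, a * x = 0) ∧ ∀ a ∈ N, x * a = 0 := by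
    have hex : ∃ d, ∃ S : Submodule k R, S ≤ N ∧ S ≠ ⊥ ∧ N * S ≤ S ∧ S * N ≤ S ∧ finrank k S = d :=
      ⟨_, N, le_rfl, fun h => hwm (by
        have := hpw (m - 1); rw [h, Submodule.mem_bot, Nat.sub_add_cancel hm] at this; exact this),
        hN2, hN2, rfl⟩
    obtain ⟨S, hSN, hS0, hl, hr, hd⟩ := Nat.find_spec hex
    have hzero : N * S ⊔ S * N = ⊥ := by
      by_contra hne
      have hle : N * S ⊔ S * N ≤ S := sup_le hl hr
      have hlt : N * S ⊔ S * N < S := lt_of_le_of_ne hle fun h => hS0 (hnil S hSN h.ge)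
      have h1 : N * (N * S ⊔ S * N) ≤ N * S ⊔ S * N :=
        (Submodule.mul_le.2 fun a ha b hb => Submodule.mul_mem_mul ha (hle hb)).trans le_sup_left
      have h2 : (N * S ⊔ S * N) * N ≤ N * S ⊔ S * N :=
        (Submodule.mul_le.2 fun a ha b hb => Submodule.mul_mem_mul (hle ha) hb).trans le_sup_right
      have := Nat.find_min' hex ⟨_, hle.trans hSN, hne, h1, h2, rfl⟩
      have := Submodule.finrank_lt_finrank_of_lt hlt
      omega
    obtain ⟨x, hx, hx0⟩ := Submodule.exists_mem_ne_zero_of_ne_bot hS0
    refine ⟨x, hSN hx, hx0, fun a ha => ?_, fun a ha => ?_⟩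
    · have : a * x ∈ N * S ⊔ S * N := Submodule.mem_sup_left (Submodule.mul_mem_mul ha hx)
      rwa [hzero, Submodule.mem_bot] at this
    · have : x * a ∈ N * S ⊔ S * N := Submodule.mem_sup_right (Submodule.mul_mem_mul hx ha)
      rwa [hzero, Submodule.mem_bot] at this
  have hτx : τ x ≠ 0 := fun h => hx0 (hnd x hxN h fun a ha => by rw [hxr a ha, map_zero])
  have hxC : x ∉ commOf N := fun h => hτx (hτc x h)
  -- the central elements of the radical
  let Z : Submodule k R :=
    { carrier := {z | z ∈ N ∧ ∀ a ∈ N, z * a = a * z}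
      zero_mem' := ⟨N.zero_mem, fun a _ => by rw [zero_mul, mul_zero]⟩
      add_mem' := fun h h' => ⟨N.add_mem h.1 h'.1, fun a ha => by
        rw [add_mul, mul_add, h.2 a ha, h'.2 a ha]⟩
      smul_mem' := fun c z h => ⟨N.smul_mem c h.1, fun a ha => by
        rw [smul_mul_assoc, mul_smul_comm, h.2 a ha]⟩ }
  set D := commOf N ⊔ Submodule.span k {x} with hD
  have hDN : D ≤ N := sup_le hCA ((Submodule.span_singleton_le_iff_mem _ _).2 hxN)
  have hDlt : finrank k (commOf N) < finrank k D := Submodule.finrank_lt_finrank_of_lt <|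
    lt_of_le_of_ne le_sup_left fun h => hxC (by
      rw [h]; exact Submodule.mem_sup_right (Submodule.mem_span_singleton_self x))
  have hQ : finrank k (N ⧸ D.comap N.subtype) + 1 ≤ m := by
    have h := (D.comap N.subtype).finrank_quotient_add_finrank
    rw [(Submodule.comapSubtypeEquivOfLe hDN).finrank_eq] at h
    omega
  have hkill : ∀ z : Z, D.comap N.subtype ≤
      LinearMap.ker ((τ.comp (LinearMap.mulLeft k (z : R))).comp N.subtype) := fun z d hd => by
    rw [LinearMap.mem_ker]
    show τ ((z : R) * (d : R)) = 0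
    obtain ⟨u, hu, v, hv, huv⟩ := Submodule.mem_sup.1 (show (d : R) ∈ D from hd)
    obtain ⟨c, rfl⟩ := Submodule.mem_span_singleton.1 hv
    rw [← huv, mul_add, map_add, mul_smul_comm, map_smul, hxl _ z.2.1, map_zero, smul_zero,
      add_zero, z.2.2 u (hCA hu)]
    exact hτc _ (hCw _ z.2.1 z.2.2 u hu)
  let Ψ : Z →ₗ[k] Module.Dual k (N ⧸ D.comap N.subtype) × k :=
    { toFun := fun z => ((D.comap N.subtype).liftQ _ (hkill z), τ (z : R))
      map_add' := fun z z' => Prod.ext (Submodule.linearMap_qext _ (LinearMap.ext fun d => by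
        simp [add_mul])) (map_add τ _ _)
      map_smul' := fun c z => Prod.ext (Submodule.linearMap_qext _ (LinearMap.ext fun d => by
        simp)) (map_smul τ c _) }
  have hinj : Function.Injective Ψ := by
    refine LinearMap.ker_eq_bot.1 ((Submodule.eq_bot_iff _).2 fun z hz => Subtype.ext ?_)
    rw [LinearMap.mem_ker, Prod.ext_iff] at hz
    exact hnd z z.2.1 hz.2 fun a ha => by
      simpa [Ψ] using LinearMap.congr_fun hz.1 (Submodule.Quotient.mk ⟨a, ha⟩)
  have hZm : finrank k Z ≤ m := by
    have h := LinearMap.finrank_le_finrank_of_injective hinj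
    rw [Module.finrank_prod, Subspace.dual_finrank_eq, finrank_self] at h
    omega
  -- the length of the chain
  set L := Nat.find hwn with hL
  have hLz : w ^ L = 0 := Nat.find_spec hwn
  have hmL : m < L := by
    by_contra h
    exact hwm (pow_eq_zero_of_le (by omega) hLz)
  have hLm : L = m + 1 := by
    obtain ⟨j, hj⟩ : ∃ j, L = j + 1 := ⟨L - 1, by omega⟩
    have hjne : w ^ j ∉ (⊥ : Submodule k R) := fun h =>
      Nat.find_min hwn (show j < L by omega) ((Submodule.mem_bot k).1 h)
    have hli : LinearIndependent k fun i : Fin j => (⟨w ^ ((i : ℕ) + 1), hpw _, hpc _⟩ : Z) := by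
      rw [Fintype.linearIndependent_iff]
      intro a ha
      refine powers_indep (S := ⊥) (by simp) hjne (hj ▸ hLz) a ?_
      have := congrArg Subtype.val ha
      simpa using this
    have := hli.fintype_card_le_finrank
    rw [Fintype.card_fin] at this
    omega
  have hz1 : w ^ (m + 1) = 0 := hLm ▸ hLz
  have hwmC : w ^ m ∉ commOf N := by
    intro h
    -- otherwise the annihilated element and the powers give too many central elements
    have hli : LinearIndependent k fun i : Option (Fin m) => (i.elim (⟨x, hxN, fun a ha => by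
        rw [hxr a ha, hxl a ha]⟩ : Z) fun j => ⟨w ^ ((j : ℕ) + 1), hpw _, hpc _⟩) := by
      rw [Fintype.linearIndependent_iff]
      intro a ha
      have ha' : a none • x + ∑ j : Fin m, a (some j) • w ^ ((j : ℕ) + 1) = 0 := by
        have := congrArg Subtype.val ha
        simpa [Fintype.sum_option] using this
      have hxm : x * w = 0 := hxr w hw
      have hrest : ∀ j : Fin m, (j : ℕ) + 1 < m → a (some j) = 0 := by
        have h2 := congrArg (· * w) ha'
        simp only [add_mul, smul_mul_assoc, hxm, smul_zero, zero_add, Finset.sum_mul, ← pow_succ,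
          zero_mul] at h2
        intro j hj
        induction hjn : (j : ℕ) using Nat.strong_induction_on generalizing j with
        | _ n ih =>
        subst hjn
        have h3 := congrArg (· * w ^ (m - ((j : ℕ) + 1 + 1))) h2
        simp only [Finset.sum_mul, smul_mul_assoc, ← pow_add, zero_mul] at h3
        rw [Finset.sum_eq_single j (fun i _ hij => ?_) (by simp), Nat.add_sub_cancel' (by omega)] at h3
        · exact (smul_eq_zero.1 h3).resolve_right hwm
        · rcases lt_or_gt_of_ne (fun h => hij (Fin.ext h) : (i : ℕ) ≠ j) with h' | h'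
          · rw [ih i h' i (by omega) rfl, zero_smul]
          · rw [pow_eq_zero_of_le (by omega) hz1, smul_zero]
      rw [Finset.sum_eq_single (⟨m - 1, by omega⟩ : Fin m) (fun j _ hj => by
        rw [hrest j (by have := j.2; have : (j : ℕ) ≠ m - 1 := fun h => hj (Fin.ext h); omega),
          zero_smul]) (by simp), Fin.val_mk, Nat.sub_add_cancel hm] at ha'
      have ha0 : a none = 0 := by
        have h4 := congrArg τ ha'
        rw [map_add, map_smul, map_smul, hτc _ h, smul_zero, add_zero, map_zero, smul_eq_mul] at h4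
        exact (mul_eq_zero.1 h4).resolve_right hτx
      rw [ha0, zero_smul, zero_add] at ha'
      rintro (_ | j)
      · exact ha0
      · by_cases hj : (j : ℕ) + 1 < m
        · exact hrest j hj
        · rw [show j = ⟨m - 1, by omega⟩ from Fin.ext (by have := j.2; simp only; omega)]
          exact (smul_eq_zero.1 ha').resolve_right hwm
    have := hli.fintype_card_le_finrank
    rw [Fintype.card_option, Fintype.card_fin] at this
    omega
  -- the powers fill the quotient
  have hgen : ∀ y ∈ N, ∃ a : Fin m → k, y - ∑ j, a j • w ^ ((j : ℕ) + 1) ∈ commOf N := by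
    let Q := (commOf N).comap N.subtype
    have hli : LinearIndependent k fun j : Fin m =>
        (Submodule.Quotient.mk (⟨w ^ ((j : ℕ) + 1), hpw _⟩ : N) : N ⧸ Q) := by
      rw [Fintype.linearIndependent_iff]
      intro a ha
      refine powers_indep (fun y hy => hCw w hw hwc y hy) hwmC hz1 a ?_
      have h : Q.mkQ (∑ j, a j • (⟨w ^ ((j : ℕ) + 1), hpw _⟩ : N)) = 0 := by
        rw [map_sum]; simp only [map_smul, Submodule.mkQ_apply]; exact ha
      rw [Submodule.mkQ_apply, Submodule.Quotient.mk_eq_zero] at h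
      simpa [Q] using h
    have hdim : finrank k (N ⧸ Q) ≤ m := by
      have h := Q.finrank_quotient_add_finrank
      rw [(Submodule.comapSubtypeEquivOfLe hCA).finrank_eq] at h
      omega
    have hspan := hli.span_eq_top_of_card_eq_finrank'
      (le_antisymm hli.fintype_card_le_finrank (by rw [Fintype.card_fin]; exact hdim))
    intro y hy
    obtain ⟨a, ha⟩ := (Submodule.mem_span_range_iff_exists_fun k).1
      (hspan.ge (Submodule.mem_top (x := Submodule.Quotient.mk (⟨y, hy⟩ : N))))
    refine ⟨a, ?_⟩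
    have h : Q.mkQ (⟨y, hy⟩ - ∑ j, a j • (⟨w ^ ((j : ℕ) + 1), hpw _⟩ : N)) = 0 := by
      rw [map_sub, map_sum]
      simp only [Submodule.mkQ_apply, map_smul]
      rw [ha, sub_self]
    rw [Submodule.mkQ_apply, Submodule.Quotient.mk_eq_zero] at h
    simpa [Q] using h
  -- commutators are commutators of commutators
  refine hnil _ hCA (le_trans (Submodule.span_le.2 ?_) le_sup_left)
  rintro _ ⟨a, ha, b, hb, rfl⟩
  obtain ⟨ca, hca⟩ := hgen a ha
  obtain ⟨cb, hcb⟩ := hgen b hb
  set A₀ := ∑ j, ca j • w ^ ((j : ℕ) + 1)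
  set B₀ := ∑ j, cb j • w ^ ((j : ℕ) + 1)
  have hA₀ : ∀ y ∈ N, A₀ * y = y * A₀ := fun y hy => by
    simp only [A₀, Finset.sum_mul, Finset.mul_sum, smul_mul_assoc, mul_smul_comm, hpc _ y hy]
  have hB₀ : ∀ y ∈ N, B₀ * y = y * B₀ := fun y hy => by
    simp only [B₀, Finset.sum_mul, Finset.mul_sum, smul_mul_assoc, mul_smul_comm, hpc _ y hy]
  have key : a * b - b * a = (a - A₀) * (b - B₀) - (b - B₀) * (a - A₀) := by
    have e1 : A₀ * (b - B₀) = (b - B₀) * A₀ := hA₀ _ (hCA hcb)
    have e2 : B₀ * a = a * B₀ := hB₀ _ ha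
    simp only [mul_sub, sub_mul] at e1 ⊢
    rw [e2]
    linear_combination (norm := abel) e1
  show a * b - b * a ∈ N * commOf N
  rw [key]
  exact sub_mem (Submodule.mul_mem_mul (hCA hca) hcb) (Submodule.mul_mem_mul (hCA hcb) hca)

end Cfsg.Lib.Blocks.RankOneSmall
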