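import Mathlib
import Cfsg.Agent.Blocks.TwoMember.BlockAlgebra
import Cfsg.Agent.Blocks.RankOneSmall.Algebra
import Cfsg.Agent.Blocks.RankOneSmall.CentreChain
import Cfsg.Agent.Blocks.RankOneFive.Algebra

/-!
# Corners of symmetric algebras with a single simple module and small centre
-/

set_option autoImplicit false
set_option linter.unusedSectionVars false
set_option linter.style.haveILetI false

namespace Cfsg.Lib.Blocks.RankOneSmall

open Module Cfsg.Lib.Blocks.TwoMember
open scoped Pointwise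

section Ring

variable {k R : Type*} [Field k] [Ring R] [Algebra k R] [FiniteDimensional k R]

/-- If any two traces of matrix representations are dependent there is a single simple factor. -/
theorem exists_hom_matrix_of_dep [IsAlgClosed k] [Nontrivial R]
    (hdep : ∀ (d₁ d₂ : ℕ) (φ₁ : R →ₐ[k] Matrix (Fin d₁) (Fin d₁) k)
      (φ₂ : R →ₐ[k] Matrix (Fin d₂) (Fin d₂) k), ∃ a b : k, (a ≠ 0 ∨ b ≠ 0) ∧
        ∀ x, a * Matrix.trace (φ₁ x) + b * Matrix.trace (φ₂ x) = 0) :
    ∃ n : ℕ, 0 < n ∧ ∃ ψ : R →ₐ[k] Matrix (Fin n) (Fin n) k, Function.Surjective ψ ∧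
      ∀ x, ψ x = 0 → x ∈ Ring.jacobson R := by
  classical
  haveI : IsArtinianRing R := IsArtinianRing.of_finite k R
  obtain ⟨m, d, hd, ⟨E⟩⟩ :=
    IsSemisimpleRing.exists_algEquiv_pi_matrix_of_isAlgClosed k (R ⧸ Ring.jacobson R)
  set π : R →ₐ[k] Π i, Matrix (Fin (d i)) (Fin (d i)) k :=
    E.toAlgHom.comp (Ideal.Quotient.mkₐ k (Ring.jacobson R)) with hπ
  have hsurj : Function.Surjective π := E.surjective.comp (Ideal.Quotient.mk_surjective)
  have hker : ∀ x, π x = 0 → x ∈ Ring.jacobson R := fun x h => by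
    rw [← Ideal.Quotient.eq_zero_iff_mem]
    exact E.injective (by rw [map_zero]; exact h)
  rcases Nat.lt_or_ge m 2 with hm | hm
  · interval_cases m
    · exfalso
      have : π 1 = 0 := funext fun i => i.elim0
      obtain ⟨N, hN⟩ : IsNilpotent (Ring.jacobson R) := IsSemiprimaryRing.isNilpotent
      have h1 : (1 : R) ∈ Ring.jacobson R ^ N := by
        rw [(Ideal.eq_top_iff_one _).2 (hker _ this), Ideal.top_pow]
        trivial
      rw [hN] at h1
      exact one_ne_zero h1
    · haveI := hd 0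
      refine ⟨d 0, Nat.pos_of_ne_zero (NeZero.ne _), (Pi.evalAlgHom k _ 0).comp π,
        fun M => ?_, fun x hx => hker x (funext fun i => ?_)⟩
      · obtain ⟨x, hx⟩ := hsurj (Function.update 0 0 M)
        exact ⟨x, by simp [hx]⟩
      · rw [Subsingleton.elim i 0]; exact hx
  · exfalso
    let i₀ : Fin m := ⟨0, by omega⟩
    let i₁ : Fin m := ⟨1, by omega⟩
    haveI := hd i₀
    haveI := hd i₁
    obtain ⟨a, b, hab, h⟩ := hdep (d i₀) (d i₁) ((Pi.evalAlgHom k _ i₀).comp π) ((Pi.evalAlgHom k _ i₁).comp π)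
    have hne : i₁ ≠ i₀ := by simp [i₀, i₁]
    obtain ⟨x, hx⟩ := hsurj (Pi.single i₀ (Matrix.single 0 0 1))
    obtain ⟨y, hy⟩ := hsurj (Pi.single i₁ (Matrix.single 0 0 1))
    have h1 := h x
    have h2 := h y
    simp [hx, hy, hne, hne.symm] at h1 h2
    rcases hab with hab | hab
    · exact hab h1
    · exact hab h2

variable (τ : R →ₗ[k] k) (hτ : ∀ a b, τ (a * b) = τ (b * a))
  (hnd : ∀ a, (∀ b, τ (a * b) = 0) → a = 0)
  {n : ℕ} (ψ : R →ₐ[k] Matrix (Fin n) (Fin n) k) {e : R} {u v : Fin n → R}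

include hτ hnd in
/-- The radical of a corner. -/
theorem exists_corner_radical (hker : ∀ x, ψ x = 0 → x ∈ Ring.jacobson R) {i₀ : Fin n}
    (he : ψ e = Matrix.single i₀ i₀ 1) (hu : ∀ i, u i * e = u i) (hv : ∀ i, e * v i = v i)
    (hvu : ∀ i j, v i * u j = if i = j then e else 0) (hone : ∑ i, u i * v i = 1) :
    let A := LinearMap.range ((LinearMap.mulLeft k e).comp (LinearMap.mulRight k e))
    e * e = e ∧ (∀ x, x ∈ A ↔ e * x = x ∧ x * e = x) ∧ ∃ N : Submodule k R,
      N * N ≤ N ∧ (∀ S : Submodule k R, S ≤ N → S ≤ N * S ⊔ S * N → S = ⊥) ∧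
      (∀ x ∈ commOf N, τ x = 0) ∧ (∀ z ∈ N, τ z = 0 → (∀ a ∈ N, τ (z * a) = 0) → z = 0) ∧
      N ≤ A ∧ finrank k A = finrank k N + 1 ∧
      finrank k A ≤ finrank k (commOf N) + finrank k (R ⧸ commSpan k R) ∧
      ∀ x ∈ A, IsNilpotent x → x ∈ N := by
  intro A₀
  classical
  haveI : IsArtinianRing R := IsArtinianRing.of_finite k R
  obtain ⟨L, hL⟩ : IsNilpotent (Ring.jacobson R) := IsSemiprimaryRing.isNilpotent
  set A := LinearMap.range ((LinearMap.mulLeft k e).comp (LinearMap.mulRight k e)) with hA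
  have hee : e * e = e := by
    have h1 := hvu i₀ i₀
    rw [if_pos rfl] at h1
    nth_rewrite 2 [← h1]
    rw [← mul_assoc, hv, h1]
  have memA : ∀ x, x ∈ A ↔ e * x = x ∧ x * e = x := fun x => by
    constructor
    · rintro ⟨r, rfl⟩
      simp only [LinearMap.comp_apply, LinearMap.mulLeft_apply, LinearMap.mulRight_apply]
      exact ⟨by rw [← mul_assoc, hee], by simp only [mul_assoc, hee]⟩
    · rintro ⟨h1, h2⟩
      exact ⟨x, by simp [h1, h2]⟩
  set N : Submodule k R := A ⊓ LinearMap.ker ψ.toLinearMap with hN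
  have memN : ∀ x, x ∈ N ↔ x ∈ A ∧ ψ x = 0 := fun x => by simp [hN]
  have hdec : ∀ x ∈ A, ∃ c : k, x - c • e ∈ N := fun x hx => by
    obtain ⟨h1, h2⟩ := (memA x).1 hx
    refine ⟨ψ x i₀ i₀, (memN _).2 ⟨A.sub_mem hx (A.smul_mem _ ((memA e).2 ⟨hee, hee⟩)), ?_⟩⟩
    have hx' : ψ x = Matrix.single i₀ i₀ 1 * ψ x * Matrix.single i₀ i₀ 1 := by
      rw [← he, ← map_mul, ← map_mul, h1, h2]
    rw [map_sub, map_smul, he, sub_eq_zero]
    conv_lhs => rw [hx', Matrix.single_mul_mul_single]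
    simp [Matrix.smul_single]
  have hN2 : N * N ≤ N := Submodule.mul_le.2 fun x hx y hy => by
    obtain ⟨hxA, hx0⟩ := (memN x).1 hx
    obtain ⟨hyA, -⟩ := (memN y).1 hy
    refine (memN _).2 ⟨(memA _).2 ⟨?_, ?_⟩, by rw [map_mul, hx0, zero_mul]⟩
    · rw [← mul_assoc, ((memA x).1 hxA).1]
    · rw [mul_assoc, ((memA y).1 hyA).2]
  set CA := commOf N with hCA
  let T : R →ₗ[k] R := ∑ i, (LinearMap.mulLeft k (v i)).comp (LinearMap.mulRight k (u i))
  have hT : ∀ r, T r = ∑ i, v i * r * u i := fun r => by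
    simp [T, LinearMap.sum_apply, mul_assoc]
  have hX : ∀ r i j, v i * r * u j ∈ A := fun r i j => (memA _).2
    ⟨by rw [← mul_assoc, ← mul_assoc, hv], by rw [mul_assoc, hu]⟩
  have hcommA : ∀ x ∈ A, ∀ y ∈ A, x * y - y * x ∈ CA := fun x hx y hy => by
    obtain ⟨c, hc⟩ := hdec x hx
    obtain ⟨c', hc'⟩ := hdec y hy
    refine Submodule.subset_span ⟨_, hc, _, hc', ?_⟩
    obtain ⟨x1, x2⟩ := (memA x).1 hx
    obtain ⟨y1, y2⟩ := (memA y).1 hy
    simp only [sub_mul, mul_sub, smul_mul_assoc, mul_smul_comm, x1, x2, y1, y2, hee, smul_sub, smul_smul,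
      mul_comm c c']
    abel
  have hTc : commSpan k R ≤ CA.comap T := Submodule.span_le.2 <| by
    rintro _ ⟨r, s, rfl⟩
    show T (r * s - s * r) ∈ CA
    have hexp : ∀ r s, T (r * s) = ∑ i, ∑ j, (v i * r * u j) * (v j * s * u i) := fun r s => by
      rw [hT]
      refine Finset.sum_congr rfl fun i _ => ?_
      calc v i * (r * s) * u i = v i * r * (∑ j, u j * v j) * (s * u i) := by
            rw [hone, mul_one]; simp only [mul_assoc]
        _ = _ := by
            rw [Finset.mul_sum, Finset.sum_mul]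
            exact Finset.sum_congr rfl fun j _ => by simp only [mul_assoc]
    rw [map_sub, hexp r s, hexp s r, Finset.sum_comm (f := fun i j =>
      (v i * s * u j) * (v j * r * u i)), ← Finset.sum_sub_distrib]
    refine Submodule.sum_mem _ fun i _ => ?_
    rw [← Finset.sum_sub_distrib]
    exact Submodule.sum_mem _ fun j _ => hcommA _ (hX _ _ _) _ (hX _ _ _)
  have hTA : ∀ x ∈ A, T (u i₀ * x * v i₀) = x := fun x hx => by
    obtain ⟨x1, x2⟩ := (memA x).1 hx
    rw [hT, Finset.sum_eq_single i₀ (fun j _ hj => ?_) (by simp)]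
    · rw [← mul_assoc, ← mul_assoc, hvu, if_pos rfl, mul_assoc _ (v i₀), hvu, if_pos rfl, x1, x2]
    · rw [← mul_assoc, ← mul_assoc, hvu, if_neg hj, zero_mul, zero_mul, zero_mul]
  have hcodA : finrank k A ≤ finrank k CA + finrank k (R ⧸ commSpan k R) := by
    let q : (R ⧸ commSpan k R) →ₗ[k] R ⧸ CA := Submodule.mapQ _ _ T hTc
    have h1 := LinearMap.finrank_range_le q
    have h2 : A.map CA.mkQ ≤ LinearMap.range q := by
      rintro _ ⟨x, hx, rfl⟩
      exact ⟨Submodule.Quotient.mk (u i₀ * x * v i₀), by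
        rw [Submodule.mapQ_apply, hTA x hx]; rfl⟩
    have h3 : finrank k (A.map CA.mkQ) + finrank k (LinearMap.ker (CA.mkQ.domRestrict A)) =
        finrank k A := by
      have := LinearMap.finrank_range_add_finrank_ker (CA.mkQ.domRestrict A)
      rwa [LinearMap.range_domRestrict] at this
    have h4 : finrank k (LinearMap.ker (CA.mkQ.domRestrict A)) ≤ finrank k CA := by
      let g : LinearMap.ker (CA.mkQ.domRestrict A) →ₗ[k] CA :=
        { toFun := fun x => ⟨((x : A) : R), (Submodule.Quotient.mk_eq_zero _).1 x.2⟩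
          map_add' := fun _ _ => rfl
          map_smul' := fun _ _ => rfl }
      exact LinearMap.finrank_le_finrank_of_injective (f := g)
        fun x y h => Subtype.ext (Subtype.ext (congrArg (fun z : CA => (z : R)) h))
    have := Submodule.finrank_mono h2
    omega
  have heN : e ∉ N := fun h => by
    have := ((memN e).1 h).2
    rw [he] at this
    have := congrFun (congrFun this i₀) i₀
    simp at this
  have hlt : N < A := lt_of_le_of_ne inf_le_left fun h => heN (h ▸ (memA e).2 ⟨hee, hee⟩)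
  have hAN := Submodule.finrank_lt_finrank_of_lt hlt
  have hnil : ∀ S : Submodule k R, S ≤ N → S ≤ N * S ⊔ S * N → S = ⊥ := by
    intro S hSN hS
    have hind : ∀ j : ℕ, ∀ x ∈ S, x ∈ Ring.jacobson R ^ j := by
      intro j
      induction j with
      | zero => intro x _; rw [Submodule.pow_zero, Ideal.one_eq_top]; exact Submodule.mem_top
      | succ j ih =>
        intro x hx
        have hj : ∀ a ∈ N, a ∈ Ring.jacobson R := fun a ha => hker a ((memN a).1 ha).2
        obtain ⟨y, hy, z, hz, rfl⟩ := Submodule.mem_sup.1 (hS hx)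
        refine add_mem ?_ ?_
        · refine Submodule.mul_induction_on hy (fun a ha b hb => ?_) fun a b ha hb => add_mem ha hb
          rw [Ideal.IsTwoSided.pow_succ]
          exact Ideal.mul_mem_mul (hj a ha) (ih b hb)
        · refine Submodule.mul_induction_on hz (fun a ha b hb => ?_) fun a b ha hb => add_mem ha hb
          rw [Ideal.IsTwoSided.pow_add, Submodule.pow_one]
          exact Ideal.mul_mem_mul (ih a ha) (hj b hb)
    exact (Submodule.eq_bot_iff _).2 fun x hx => by simpa [hL] using hind L x hx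
  have hCτ : ∀ x ∈ CA, τ x = 0 := by
    have : CA ≤ LinearMap.ker τ := Submodule.span_le.2 <| by
      rintro _ ⟨a, -, b, -, rfl⟩
      simp [hτ a b]
    exact fun x hx => this hx
  have hndN : ∀ z ∈ N, τ z = 0 → (∀ a ∈ N, τ (z * a) = 0) → z = 0 := by
    intro z hz hz0 hza
    obtain ⟨z1, z2⟩ := (memA z).1 ((memN z).1 hz).1
    refine hnd z fun r => ?_
    have hA' : e * r * e ∈ A := ⟨r, by simp [mul_assoc]⟩
    obtain ⟨c, hc⟩ := hdec _ hA'
    have h1 := hza _ hc
    rw [mul_sub, map_sub, mul_smul_comm, z2, map_smul, hz0, smul_zero, sub_zero] at h1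
    calc τ (z * r) = τ (e * (z * r)) := by rw [← mul_assoc, z1]
      _ = τ (z * r * e) := hτ _ _
      _ = τ (z * (e * r * e)) := by simp only [← mul_assoc, z2]
      _ = 0 := h1
  refine ⟨hee, memA, N, hN2, hnil, hCτ, hndN, inf_le_left, le_antisymm ?_ hAN, hcodA, fun w hwA hwn => ?_⟩
  · have hle : A ≤ N ⊔ Submodule.span k {e} := fun x hx => by
      obtain ⟨c, hc⟩ := hdec x hx
      exact Submodule.mem_sup.2 ⟨x - c • e, hc, c • e,
        Submodule.smul_mem _ _ (Submodule.mem_span_singleton_self e), sub_add_cancel _ _⟩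
    have h1 := (Submodule.finrank_mono hle).trans (Submodule.finrank_add_le_finrank_add_finrank _ _)
    have h2 : finrank k (Submodule.span k {e}) ≤ 1 :=
      (finrank_span_le_card ({e} : Set R)).trans (by simp)
    exact h1.trans (by omega)
  · refine (memN w).2 ⟨hwA, ?_⟩
    obtain ⟨x1, x2⟩ := (memA w).1 hwA
    have hx : ψ w = Matrix.single i₀ i₀ (ψ w i₀ i₀) := by
      have h' : ψ w = Matrix.single i₀ i₀ 1 * ψ w * Matrix.single i₀ i₀ 1 := by
        rw [← he, ← map_mul, ← map_mul, x1, x2]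
      conv_lhs => rw [h', Matrix.single_mul_mul_single, one_mul, mul_one]
    have hpow : ∀ j : ℕ, ψ w ^ (j + 1) = Matrix.single i₀ i₀ ((ψ w i₀ i₀) ^ (j + 1)) := fun j => by
      induction j with
      | zero => simpa using hx
      | succ j ih =>
        rw [pow_succ (ψ w), ih]
        conv_lhs => arg 2; rw [hx]
        rw [Matrix.single_mul_single_same, ← pow_succ]
    obtain ⟨j, hj⟩ := hwn
    have h0 := congrFun (congrFun (hpow j) i₀) i₀
    rw [← map_pow, pow_succ, hj, zero_mul, map_zero, Matrix.zero_apply, Matrix.single_apply_same] at h0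
    rw [hx, eq_zero_of_pow_eq_zero h0.symm, Matrix.single_zero]

include hτ hnd in
/-- A corner is commutative when small, or when a central nilpotent has a long chain of powers. -/
theorem finrank_corner_le_gen (hker : ∀ x, ψ x = 0 → x ∈ Ring.jacobson R) {i₀ : Fin n}
    (he : ψ e = Matrix.single i₀ i₀ 1) (hu : ∀ i, u i * e = u i) (hv : ∀ i, e * v i = v i)
    (hvu : ∀ i j, v i * u j = if i = j then e else 0) (hone : ∑ i, u i * v i = 1)
    (hsmall : finrank k (R ⧸ commSpan k R) ≤ 4 ∨ ∃ z : R, (∀ a, z * a = a * z) ∧ IsNilpotent z ∧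
      z ^ (finrank k (R ⧸ commSpan k R) - 1) ≠ 0) :
    finrank k (LinearMap.range ((LinearMap.mulLeft k e).comp (LinearMap.mulRight k e))) ≤
      finrank k (R ⧸ commSpan k R) := by
  classical
  obtain ⟨hee, memA, N, hN2, hnil, hCτ, hndN, hNA, hAN, hcodA, hnilN⟩ :=
    exists_corner_radical τ hτ hnd ψ hker he hu hv hvu hone
  set A := LinearMap.range ((LinearMap.mulLeft k e).comp (LinearMap.mulRight k e)) with hA
  have hC0 : commOf N = ⊥ := by
    by_cases hc4 : finrank k (R ⧸ commSpan k R) ≤ 4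
    · exact commOf_eq_bot N hN2 hnil (by omega) τ hCτ hndN
    obtain ⟨z, hzc, ⟨L', hL'⟩, hzm⟩ := hsmall.resolve_left hc4
    set w := e * z with hw
    have hcm : Commute e z := (hzc e).symm
    have hwpow : ∀ j, w ^ (j + 1) = e * z ^ (j + 1) := fun j => by
      rw [hw, hcm.mul_pow, IsIdempotentElem.pow_succ_eq j hee]
    have hwA : w ∈ A := (memA w).2 ⟨by rw [hw, ← mul_assoc, hee],
      by rw [hw, mul_assoc, hzc e, ← mul_assoc, hee]⟩
    have hwnil : w ^ (L' + 1) = 0 := by rw [hwpow, pow_succ, hL', zero_mul, mul_zero]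
    have hwN : w ∈ N := hnilN w hwA ⟨_, hwnil⟩
    refine commOf_eq_bot_of_central N hN2 hnil τ hCτ hndN hwN (fun a ha => ?_)
      ⟨_, hwnil⟩ (m := finrank k (R ⧸ commSpan k R) - 1) (by omega) ?_ (by omega)
    · obtain ⟨a1, a2⟩ := (memA a).1 (hNA ha)
      rw [hw, mul_assoc, hzc a, ← mul_assoc, a1, ← mul_assoc, a2]
    · intro h
      obtain ⟨j, hj⟩ : ∃ j, finrank k (R ⧸ commSpan k R) - 1 = j + 1 := ⟨_, (Nat.sub_add_cancel
        (show 1 ≤ finrank k (R ⧸ commSpan k R) - 1 by omega)).symm⟩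
      rw [hj] at h hzm
      rw [hwpow] at h
      have hzj : ∀ a, z ^ (j + 1) * a = a * z ^ (j + 1) := fun a => (Commute.pow_left (hzc a) _).eq
      refine hzm ?_
      rw [← mul_one (z ^ (j + 1)), ← hone, Finset.mul_sum]
      refine Finset.sum_eq_zero fun i _ => ?_
      rw [← hu i, ← mul_assoc, ← mul_assoc, hzj, mul_assoc (u i), hzj e, h, mul_zero, zero_mul]
  rw [hC0, finrank_bot] at hcodA
  omega

include hτ hnd in
/-- A corner for a centre of dimension at most five. -/
theorem finrank_corner_le_eight [IsAlgClosed k] (hker : ∀ x, ψ x = 0 → x ∈ Ring.jacobson R) {i₀ : Fin n}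
    (he : ψ e = Matrix.single i₀ i₀ 1) (hu : ∀ i, u i * e = u i) (hv : ∀ i, e * v i = v i)
    (hvu : ∀ i j, v i * u j = if i = j then e else 0) (hone : ∑ i, u i * v i = 1)
    (hcod : finrank k (R ⧸ commSpan k R) ≤ 5) :
    finrank k (LinearMap.range ((LinearMap.mulLeft k e).comp (LinearMap.mulRight k e))) ≤ 8 := by
  obtain ⟨-, -, N, hN2, hnil, hCτ, hndN, -, hAN, hcodA, -⟩ :=
    exists_corner_radical τ hτ hnd ψ hker he hu hv hvu hone
  have := RankOneFive.finrank_le_seven N hN2 hnil (by omega) τ hCτ hndN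
  omega

include hτ hnd in
/-- A small corner is commutative, of dimension at most the corank of the commutators. -/
theorem finrank_corner_le_of_small (hker : ∀ x, ψ x = 0 → x ∈ Ring.jacobson R) {i₀ : Fin n}
    (he : ψ e = Matrix.single i₀ i₀ 1) (hu : ∀ i, u i * e = u i) (hv : ∀ i, e * v i = v i)
    (hvu : ∀ i j, v i * u j = if i = j then e else 0) (hone : ∑ i, u i * v i = 1)
    (hcod : finrank k (R ⧸ commSpan k R) ≤ 4) :
    finrank k (LinearMap.range ((LinearMap.mulLeft k e).comp (LinearMap.mulRight k e))) ≤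
      finrank k (R ⧸ commSpan k R) :=
  finrank_corner_le_gen τ hτ hnd ψ hker he hu hv hvu hone (Or.inl hcod)

/-- The dimension of the principal right ideal at the corner idempotent. -/
theorem finrank_right_ideal (hu : ∀ i, u i * e = u i) (hv : ∀ i, e * v i = v i)
    (hvu : ∀ i j, v i * u j = if i = j then e else 0) (hone : ∑ i, u i * v i = 1) (hee : e * e = e) :
    finrank k (corner k e) =
      n * finrank k (LinearMap.range ((LinearMap.mulLeft k e).comp (LinearMap.mulRight k e))) := by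
  classical
  set Φ := (LinearMap.mulLeft k e).comp (LinearMap.mulRight k e) with hΦ
  have hΦa : ∀ r, Φ r = e * (r * e) := fun r => rfl
  have hmem : ∀ (x : corner k e) j, (x : R) * u j ∈ LinearMap.range Φ := fun x j =>
    ⟨(x : R) * u j, by rw [hΦa, mul_assoc (x : R), hu, ← mul_assoc, show e * (x : R) = x from x.2]⟩
  let Θ : corner k e →ₗ[k] (Fin n → LinearMap.range Φ) :=
    { toFun := fun x j => ⟨(x : R) * u j, hmem x j⟩
      map_add' := fun x y => funext fun j => Subtype.ext (by simp [add_mul])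
      map_smul' := fun c x => funext fun j => Subtype.ext (by simp) }
  have hinj : Function.Injective Θ := fun x y h => Subtype.ext (by
    rw [← mul_one (x : R), ← mul_one (y : R), ← hone, Finset.mul_sum, Finset.mul_sum]
    refine Finset.sum_congr rfl fun j _ => ?_
    rw [← mul_assoc, ← mul_assoc]
    exact congrArg (fun r => r * v j) (congrArg Subtype.val (congrFun h j)))
  have hsurj : Function.Surjective Θ := fun f => by
    have hfix : ∀ j, e * (f j : R) = f j ∧ (f j : R) * e = f j := fun j => by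
      obtain ⟨r, hr⟩ := (f j).2
      rw [← hr, hΦa]
      exact ⟨by rw [← mul_assoc, hee], by simp only [mul_assoc, hee]⟩
    refine ⟨⟨∑ i, (f i : R) * v i, ?_⟩, funext fun j => Subtype.ext ?_⟩
    · show e * _ = _
      rw [Finset.mul_sum]
      exact Finset.sum_congr rfl fun i _ => by rw [← mul_assoc, (hfix i).1]
    · show (∑ i, (f i : R) * v i) * u j = f j
      rw [Finset.sum_mul, Finset.sum_eq_single j (fun i _ hi => by rw [mul_assoc, hvu, if_neg hi, mul_zero])
        (by simp), mul_assoc, hvu, if_pos rfl, (hfix j).2]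
  rw [(LinearEquiv.ofBijective Θ ⟨hinj, hsurj⟩).finrank_eq, Module.finrank_pi_fintype,
    Finset.sum_const, Finset.card_univ, Fintype.card_fin, smul_eq_mul]

end Ring

section Corner

variable {k A : Type*} [Field k] [Ring A] [Algebra k A] [IsAlgClosed k] [FiniteDimensional k A] (e : A)

/-- The structure of a corner with one simple module. -/
theorem exists_structure_both (hc : ∀ a, e * a = a * e) (hee : e * e = e) (hne : e ≠ 0)
    (τ : A →ₗ[k] k) (hτ : ∀ a b, τ (a * b) = τ (b * a)) (hnd : ∀ a, (∀ b, τ (a * b) = 0) → a = 0)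
    (hdep : ∀ (d₁ d₂ : ℕ) (φ₁ : A →ₐ[k] Matrix (Fin d₁) (Fin d₁) k)
      (φ₂ : A →ₐ[k] Matrix (Fin d₂) (Fin d₂) k), φ₁ e = 1 → φ₂ e = 1 → ∃ a b : k, (a ≠ 0 ∨ b ≠ 0) ∧
        ∀ x, a * Matrix.trace (φ₁ x) + b * Matrix.trace (φ₂ x) = 0) :
    ∃ n f : ℕ, 0 < n ∧ 0 < f ∧
      ((finrank k (corner k e ⊓ (Subalgebra.center k A).toSubmodule : Submodule k A) ≤ 4 ∨
        ∃ z : A, e * z = z ∧ (∀ a, z * a = a * z) ∧ IsNilpotent z ∧
          z ^ (finrank k (corner k e ⊓ (Subalgebra.center k A).toSubmodule : Submodule k A) - 1) ≠ 0) →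
        f ≤ finrank k (corner k e ⊓ (Subalgebra.center k A).toSubmodule : Submodule k A)) ∧
      (finrank k (corner k e ⊓ (Subalgebra.center k A).toSubmodule : Submodule k A) ≤ 5 → f ≤ 8) ∧
      finrank k (corner k e) = n * n * f ∧
      ∃ e₁ : A, e₁ * e₁ = e₁ ∧ finrank k (corner k e₁) = n * f := by
  classical
  set I : Ideal A := Ideal.span {1 - e} with hI
  have hmem : ∀ a, a ∈ I ↔ e * a = 0 := fun a => by
    rw [hI, Ideal.mem_span_singleton']
    constructor
    · rintro ⟨b, rfl⟩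
      rw [← mul_assoc, hc b, mul_assoc, mul_sub, mul_one, hee, sub_self, mul_zero]
    · intro h
      exact ⟨a, by rw [mul_sub, mul_one, ← hc, h, sub_zero]⟩
  haveI : I.IsTwoSided := ⟨fun {a} b ha => by
    rw [hmem] at ha ⊢
    rw [← mul_assoc, ha, zero_mul]⟩
  let q : A →ₐ[k] A ⧸ I := Ideal.Quotient.mkₐ k I
  have hq : ∀ a b, q a = q b ↔ e * a = e * b := fun a b => by
    rw [Ideal.Quotient.mkₐ_eq_mk, Ideal.Quotient.mk_eq_mk_iff_sub_mem, hmem, mul_sub, sub_eq_zero]
  have hqsurj : Function.Surjective q := Ideal.Quotient.mkₐ_surjective k I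
  let g : corner k e →ₗ[k] A ⧸ I := q.toLinearMap.comp (corner k e).subtype
  have hg : Function.Bijective g := by
    refine ⟨fun x y h => Subtype.ext ?_, fun r => ?_⟩
    · have := (hq _ _).1 h
      change e * (x : A) = e * (y : A) at this
      rwa [show e * (x : A) = x from x.2, show e * (y : A) = y from y.2] at this
    · obtain ⟨a, rfl⟩ := hqsurj r
      exact ⟨⟨e * a, by rw [mem_corner, ← mul_assoc, hee]⟩,
        (hq _ _).2 (show e * (e * a) = e * a by rw [← mul_assoc, hee])⟩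
  let L := LinearEquiv.ofBijective g hg
  have hLq : ∀ a, (L.symm (q a) : A) = e * a := fun a => by
    have : L ⟨e * a, by rw [mem_corner, ← mul_assoc, hee]⟩ = q a :=
      (hq _ _).2 (show e * (e * a) = e * a by rw [← mul_assoc, hee])
    rw [← this, L.symm_apply_apply]
  haveI : Module.Finite k (A ⧸ I) := Module.Finite.of_surjective q.toLinearMap hqsurj
  haveI : Nontrivial (A ⧸ I) := ⟨⟨q e, 0, fun h => hne (by
    rw [← map_zero q, hq, hee, mul_zero] at h
    exact h)⟩⟩
  let τ' : A ⧸ I →ₗ[k] k := (τ.comp (corner k e).subtype).comp L.symm.toLinearMap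
  have hτ'q : ∀ a, τ' (q a) = τ (e * a) := fun a => congrArg τ (hLq a)
  have hτ' : ∀ r s, τ' (r * s) = τ' (s * r) := fun r s => by
    obtain ⟨a, rfl⟩ := hqsurj r
    obtain ⟨b, rfl⟩ := hqsurj s
    rw [← map_mul, ← map_mul, hτ'q, hτ'q, ← mul_assoc, hτ, ← mul_assoc, ← hc, mul_assoc]
  have hnd' : ∀ r, (∀ s, τ' (r * s) = 0) → r = 0 := fun r h => by
    obtain ⟨a, rfl⟩ := hqsurj r
    rw [← map_zero q, hq, mul_zero]
    exact hnd _ fun b => by
      have := h (q b)
      rwa [← map_mul, hτ'q, ← mul_assoc] at this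
  obtain ⟨n, hn, ψ, hψ, hker⟩ := exists_hom_matrix_of_dep (k := k) (R := A ⧸ I) fun d₁ d₂ φ₁ φ₂ => by
    have hqe : q e = 1 := by rw [← map_one q, hq, hee, mul_one]
    obtain ⟨a, b, hab, h⟩ := hdep d₁ d₂ (φ₁.comp q) (φ₂.comp q)
      (by rw [AlgHom.comp_apply, hqe, map_one]) (by rw [AlgHom.comp_apply, hqe, map_one])
    exact ⟨a, b, hab, fun r => by obtain ⟨x, rfl⟩ := hqsurj r; exact h x⟩
  obtain ⟨e₀, u, v, he₀, hu, hv, hvu, hone⟩ := exists_units ψ hψ hker ⟨0, hn⟩
  have hcq : finrank k (Subalgebra.center k (A ⧸ I)).toSubmodule ≤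
      finrank k (corner k e ⊓ (Subalgebra.center k A).toSubmodule : Submodule k A) := by
    refine le_trans (Submodule.finrank_mono ?_) (Submodule.finrank_map_le q.toLinearMap _)
    intro r hr
    obtain ⟨a, rfl⟩ := hqsurj r
    refine ⟨e * a, ⟨by show e * (e * a) = e * a; rw [← mul_assoc, hee],
      (Subalgebra.mem_center_iff (R := k)).2 fun b => ?_⟩, (hq _ _).2 (by rw [← mul_assoc, hee])⟩
    have h1 := (Subalgebra.mem_center_iff (R := k)).1 hr (q b)
    rw [← map_mul, ← map_mul, hq] at h1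
    rw [← mul_assoc, ← hc, mul_assoc, h1, mul_assoc]
  have hcomm := (finrank_quotient_commSpan_le τ' hτ' hnd').trans hcq
  set f := finrank k (LinearMap.range ((LinearMap.mulLeft k e₀).comp (LinearMap.mulRight k e₀))) with hf
  have hfive : finrank k (corner k e ⊓ (Subalgebra.center k A).toSubmodule : Submodule k A) ≤ 5 → f ≤ 8 :=
    fun h5 => finrank_corner_le_eight τ' hτ' hnd' ψ hker he₀ hu hv hvu hone (hcomm.trans h5)
  have hfle : (finrank k (corner k e ⊓ (Subalgebra.center k A).toSubmodule : Submodule k A) ≤ 4 ∨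
        ∃ z : A, e * z = z ∧ (∀ a, z * a = a * z) ∧ IsNilpotent z ∧
          z ^ (finrank k (corner k e ⊓ (Subalgebra.center k A).toSubmodule : Submodule k A) - 1) ≠ 0) →
      f ≤ finrank k (corner k e ⊓ (Subalgebra.center k A).toSubmodule : Submodule k A) := fun hZ =>
    (finrank_corner_le_gen τ' hτ' hnd' ψ hker he₀ hu hv hvu hone (by
    rcases hZ with hZ | ⟨z, hez, hzc, hzn, hzm⟩
    · exact Or.inl (hcomm.trans hZ)
    refine Or.inr ⟨q z, fun r => ?_, hzn.map q, fun h => hzm ?_⟩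
    · obtain ⟨a, rfl⟩ := hqsurj r
      rw [← map_mul, ← map_mul, hzc]
    · rw [← map_pow, ← map_zero q, hq, mul_zero] at h
      refine pow_eq_zero_of_le (m := finrank k ((A ⧸ I) ⧸ commSpan k (A ⧸ I)) - 1) (by omega) ?_
      rcases Nat.eq_zero_or_pos (finrank k ((A ⧸ I) ⧸ commSpan k (A ⧸ I)) - 1) with h0 | h0
      · rw [h0, pow_zero, mul_one] at h
        exact absurd h hne
      obtain ⟨j, hj⟩ : ∃ j, finrank k ((A ⧸ I) ⧸ commSpan k (A ⧸ I)) - 1 = j + 1 :=
        ⟨_, (Nat.sub_add_cancel h0).symm⟩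
      rw [hj] at h ⊢
      rwa [pow_succ', ← mul_assoc, hez, ← pow_succ'] at h)).trans hcomm
  have hee₀ : e₀ * e₀ = e₀ := by
    have h1 := hvu ⟨0, hn⟩ ⟨0, hn⟩
    rw [if_pos rfl] at h1
    nth_rewrite 2 [← h1]
    rw [← mul_assoc, hv, h1]
  have hdim := finrank_eq_mul_corner (k := k) hu hv hvu hone
  rw [← hf] at hdim
  have hdimI : finrank k (corner k e) = n * n * f := L.finrank_eq.trans hdim
  have hf0 : 0 < f := by
    have : 0 < finrank k (A ⧸ I) := Module.finrank_pos
    rw [hdim] at this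
    exact Nat.pos_of_mul_pos_left this
  refine ⟨n, f, hn, hf0, hfle, hfive, hdimI, (L.symm e₀ : A), ?_, ?_⟩
  · obtain ⟨a, ha⟩ := hqsurj e₀
    rw [← ha, hLq]
    have h2 : e * (a * a) = e * a := (hq _ _).1 (by rw [map_mul, ha, hee₀])
    rw [mul_assoc, ← mul_assoc a, ← hc, mul_assoc e a a, ← mul_assoc, hee, h2]
  · obtain ⟨a, ha⟩ := hqsurj e₀
    rw [← ha, hLq]
    have hr := finrank_right_ideal (k := k) hu hv hvu hone hee₀
    rw [← hf] at hr
    rw [← hr]
    have hsub : ∀ x : corner k (e * a), e * (x : A) = x := fun x => by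
      conv_lhs => rw [← show e * a * (x : A) = x from x.2, ← mul_assoc, ← mul_assoc, hee]
      exact x.2
    let Λ : corner k (e * a) →ₗ[k] corner k e₀ :=
      { toFun := fun x => ⟨q x, by
          show e₀ * q x = q x
          rw [← ha, ← map_mul, hq, ← mul_assoc, show e * a * (x : A) = x from x.2, hsub x]⟩
        map_add' := fun x y => Subtype.ext (map_add q (x : A) y)
        map_smul' := fun c x => Subtype.ext (map_smul q c (x : A)) }
    refine (LinearEquiv.ofBijective Λ ⟨fun x y h => Subtype.ext ?_, fun r => ?_⟩).finrank_eq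
    · have h1 := (hq _ _).1 (congrArg Subtype.val h)
      rwa [hsub x, hsub y] at h1
    · obtain ⟨b, hb⟩ := hqsurj (r : A ⧸ I)
      refine ⟨⟨e * b, ?_⟩, Subtype.ext ?_⟩
      · show e * a * (e * b) = e * b
        have h1 : q (a * b) = q b := by rw [map_mul, ha, hb]; exact r.2
        rw [mul_assoc, ← mul_assoc a, ← hc, mul_assoc e a b, ← mul_assoc, hee, (hq _ _).1 h1]
      · show q (e * b) = r
        rw [← hb, hq, ← mul_assoc, hee]

/-- The structure of a corner with one simple module and small or uniserial centre. -/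
theorem exists_structure_gen (hc : ∀ a, e * a = a * e) (hee : e * e = e) (hne : e ≠ 0)
    (τ : A →ₗ[k] k) (hτ : ∀ a b, τ (a * b) = τ (b * a)) (hnd : ∀ a, (∀ b, τ (a * b) = 0) → a = 0)
    (hZ : finrank k (corner k e ⊓ (Subalgebra.center k A).toSubmodule : Submodule k A) ≤ 4 ∨
      ∃ z : A, e * z = z ∧ (∀ a, z * a = a * z) ∧ IsNilpotent z ∧
        z ^ (finrank k (corner k e ⊓ (Subalgebra.center k A).toSubmodule : Submodule k A) - 1) ≠ 0)
    (hdep : ∀ (d₁ d₂ : ℕ) (φ₁ : A →ₐ[k] Matrix (Fin d₁) (Fin d₁) k)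
      (φ₂ : A →ₐ[k] Matrix (Fin d₂) (Fin d₂) k), φ₁ e = 1 → φ₂ e = 1 → ∃ a b : k, (a ≠ 0 ∨ b ≠ 0) ∧
        ∀ x, a * Matrix.trace (φ₁ x) + b * Matrix.trace (φ₂ x) = 0) :
    ∃ n f : ℕ, 0 < n ∧ 0 < f ∧
      f ≤ finrank k (corner k e ⊓ (Subalgebra.center k A).toSubmodule : Submodule k A) ∧
      finrank k (corner k e) = n * n * f ∧
      ∃ e₁ : A, e₁ * e₁ = e₁ ∧ finrank k (corner k e₁) = n * f := by
  obtain ⟨n, f, hn, hf, hle, -, h⟩ := exists_structure_both e hc hee hne τ hτ hnd hdep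
  exact ⟨n, f, hn, hf, hle hZ, h⟩

/-- The structure of a corner with one simple module and small centre. -/
theorem exists_structure (hc : ∀ a, e * a = a * e) (hee : e * e = e) (hne : e ≠ 0)
    (τ : A →ₗ[k] k) (hτ : ∀ a b, τ (a * b) = τ (b * a)) (hnd : ∀ a, (∀ b, τ (a * b) = 0) → a = 0)
    (hZ : finrank k (corner k e ⊓ (Subalgebra.center k A).toSubmodule : Submodule k A) ≤ 4)
    (hdep : ∀ (d₁ d₂ : ℕ) (φ₁ : A →ₐ[k] Matrix (Fin d₁) (Fin d₁) k)
      (φ₂ : A →ₐ[k] Matrix (Fin d₂) (Fin d₂) k), φ₁ e = 1 → φ₂ e = 1 → ∃ a b : k, (a ≠ 0 ∨ b ≠ 0) ∧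
        ∀ x, a * Matrix.trace (φ₁ x) + b * Matrix.trace (φ₂ x) = 0) :
    ∃ n f : ℕ, 0 < n ∧ 0 < f ∧
      f ≤ finrank k (corner k e ⊓ (Subalgebra.center k A).toSubmodule : Submodule k A) ∧
      finrank k (corner k e) = n * n * f ∧
      ∃ e₁ : A, e₁ * e₁ = e₁ ∧ finrank k (corner k e₁) = n * f :=
  exists_structure_gen e hc hee hne τ hτ hnd (Or.inl hZ) hdep

end Corner

end Cfsg.Lib.Blocks.RankOneSmall
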