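import Mathlib
import Cfsg.Agent.Blocks.TwoMember.BlockAlgebra
import Cfsg.Agent.Blocks.RankOneSmall.Corner
import Cfsg.Agent.Blocks.RankOneBlock
import Cfsg.Agent.Blocks.PPart
import Cfsg.Agent.Blocks.Defect2

/-!
# A block with one modular character and at most four ordinary characters

Its defect group has as many elements as the block has characters.
-/

set_option autoImplicit false
set_option linter.unusedSectionVars false
set_option linter.style.haveILetI false

namespace Cfsg.Lib.Blocks.RankOneSmall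

open Module Cfsg.Lib.Chars Cfsg.Lib.Blocks.TwoMember
open scoped ComplexConjugate

universe u

section Projective

variable {G : Type u} [Group G] [Fintype G] {k : Type*} [Field k] {p : ℕ} [Fact p.Prime] [CharP k p]

/-- A nonzero element spans, under right translation by a `p`-group, a nonzero fixed element. -/
theorem exists_fixed_right {P : Subgroup G} (hP : IsPGroup p P) {v : MonoidAlgebra k G} (hv : v ≠ 0) :
    ∃ w ∈ Submodule.span k (Set.range fun q : P => v * MonoidAlgebra.single (q : G) (1 : k)),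
      w ≠ 0 ∧ ∀ q ∈ P, w * MonoidAlgebra.single q (1 : k) = w := by
  classical
  haveI : NeZero p := ⟨(Fact.out : p.Prime).ne_zero⟩
  letI := Fintype.ofFinite P
  set φ : (P → ZMod p) →+ MonoidAlgebra k G :=
    { toFun := fun f => ∑ x : P,
        (ZMod.castHom dvd_rfl k (f x)) • (v * MonoidAlgebra.single (x : G) (1 : k))
      map_zero' := Finset.sum_eq_zero fun x _ => by rw [Pi.zero_apply, map_zero, zero_smul]
      map_add' := fun f g => by
        rw [← Finset.sum_add_distrib]
        refine Finset.sum_congr rfl fun x _ => ?_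
        rw [Pi.add_apply, map_add, add_smul] }
  have hφapp : ∀ f, φ f = ∑ x : P,
      (ZMod.castHom dvd_rfl k (f x)) • (v * MonoidAlgebra.single (x : G) (1 : k)) := fun f => rfl
  set W : AddSubgroup (MonoidAlgebra k G) := φ.range
  have hclosed : ∀ (y : P) (w : W),
      (w : MonoidAlgebra k G) * MonoidAlgebra.single ((y : G)⁻¹) (1 : k) ∈ W := by
    rintro y ⟨_, f, rfl⟩
    refine ⟨fun x => f (x * y), ?_⟩
    simp only [hφapp]
    rw [Finset.sum_mul]
    refine (Fintype.sum_equiv (Equiv.mulRight y⁻¹) _ _ fun x => ?_).symm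
    rw [smul_mul_assoc, mul_assoc, MonoidAlgebra.single_mul_single, one_mul]
    simp
  letI act : MulAction P W :=
    { smul := fun y w => ⟨(w : MonoidAlgebra k G) * MonoidAlgebra.single ((y : G)⁻¹) (1 : k), hclosed y w⟩
      one_smul := fun w => Subtype.ext (by
        show (w : MonoidAlgebra k G) * MonoidAlgebra.single (((1 : P) : G)⁻¹) (1 : k) = _
        rw [Subgroup.coe_one, inv_one, ← MonoidAlgebra.one_def, mul_one])
      mul_smul := fun a b w => Subtype.ext (by
        show (w : MonoidAlgebra k G) * MonoidAlgebra.single (((a * b : P) : G)⁻¹) (1 : k) =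
          (w : MonoidAlgebra k G) * MonoidAlgebra.single ((b : G)⁻¹) (1 : k) *
            MonoidAlgebra.single ((a : G)⁻¹) (1 : k)
        rw [mul_assoc, MonoidAlgebra.single_mul_single, one_mul, Subgroup.coe_mul, mul_inv_rev]) }
  haveI : Finite W := Finite.of_surjective φ.rangeRestrict φ.rangeRestrict_surjective
  have hmem : v ∈ W := ⟨Pi.single 1 1, by
    rw [hφapp, Finset.sum_eq_single (1 : P)]
    · rw [Pi.single_eq_same, map_one, one_smul, Subgroup.coe_one, ← MonoidAlgebra.one_def, mul_one]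
    · intro x _ hx
      rw [Pi.single_eq_of_ne hx, map_zero, zero_smul]
    · exact fun h => absurd (Finset.mem_univ _) h⟩
  have hnt : 1 < Nat.card W := by
    refine Finite.one_lt_card_iff_nontrivial.2 ⟨⟨⟨v, hmem⟩, 0, fun h => hv ?_⟩⟩
    exact congrArg Subtype.val h
  have hdvd : p ∣ Nat.card W := by
    obtain ⟨q, hq, hqd⟩ := Nat.exists_prime_and_dvd hnt.ne'
    haveI := Fact.mk hq
    obtain ⟨w, hw⟩ := exists_prime_addOrderOf_dvd_card' (G := W) q hqd
    have h1 : p • w = 0 := Subtype.ext (by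
      rw [AddSubgroup.coe_nsmul, ← Nat.cast_smul_eq_nsmul k, CharP.cast_eq_zero, zero_smul,
        AddSubgroup.coe_zero])
    have h2 : q ∣ p := hw ▸ addOrderOf_dvd_of_nsmul_eq_zero h1
    rwa [(Nat.prime_dvd_prime_iff_eq hq Fact.out).1 h2] at hqd
  have h0 : (0 : W) ∈ MulAction.fixedPoints P W := fun y => Subtype.ext (by
    show (0 : MonoidAlgebra k G) * _ = 0
    rw [zero_mul])
  obtain ⟨w, hw, hw0⟩ :=
    hP.exists_fixed_point_of_prime_dvd_card_of_fixed_point W hdvd h0
  refine ⟨w, ?_, fun h => hw0 (Subtype.ext h.symm), fun q hq => ?_⟩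
  · obtain ⟨f, hf⟩ := w.2
    rw [← hf, hφapp]
    exact Submodule.sum_mem _ fun x _ => Submodule.smul_mem _ _ (Submodule.subset_span ⟨x, rfl⟩)
  · have h1 : (w : MonoidAlgebra k G) *
        MonoidAlgebra.single (((⟨q⁻¹, P.inv_mem hq⟩ : P) : G)⁻¹) (1 : k) = w :=
      congrArg Subtype.val (hw ⟨q⁻¹, P.inv_mem hq⟩)
    simpa using h1

/-- The elements fixed by right translation by `P`. -/
noncomputable def fixR (k : Type*) [Field k] (P : Subgroup G) : Submodule k (MonoidAlgebra k G) where
  carrier := {x | ∀ q ∈ P, x * MonoidAlgebra.single q (1 : k) = x}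
  add_mem' := fun {a b} ha hb q hq => by rw [add_mul, ha q hq, hb q hq]
  zero_mem' := fun q _ => zero_mul _
  smul_mem' := fun c a ha q hq => by rw [smul_mul_assoc, ha q hq]

theorem finrank_le_mul_fixR {P : Subgroup G} (hP : IsPGroup p P) (V : Submodule k (MonoidAlgebra k G))
    (hV : ∀ x ∈ V, ∀ q ∈ P, x * MonoidAlgebra.single q (1 : k) ∈ V) :
    finrank k V ≤ Nat.card P * finrank k (V ⊓ fixR k P : Submodule k (MonoidAlgebra k G)) := by
  classical
  haveI : FiniteDimensional k (MonoidAlgebra k G) := Module.Finite.equiv (fnEquiv k G).symm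
  letI := Fintype.ofFinite P
  set W : Submodule k (MonoidAlgebra k G) := V ⊓ fixR k P with hW
  obtain ⟨W', hc⟩ := W.exists_isCompl
  set π := W.projectionOnto W' hc
  let Θ : V →ₗ[k] (P → W) :=
    { toFun := fun v q => π ((v : MonoidAlgebra k G) * MonoidAlgebra.single (q : G) (1 : k))
      map_add' := fun a b => funext fun q => by simp [add_mul]
      map_smul' := fun c a => funext fun q => by simp [smul_mul_assoc] }
  have hinj : Function.Injective Θ := by
    rw [← LinearMap.ker_eq_bot, LinearMap.ker_eq_bot']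
    intro v hv
    by_contra hne
    obtain ⟨w, hw, hw0, hfix⟩ :=
      exists_fixed_right (k := k) hP (fun h => hne (Subtype.ext h) : (v : MonoidAlgebra k G) ≠ 0)
    have hsub : Submodule.span k (Set.range fun q : P =>
        (v : MonoidAlgebra k G) * MonoidAlgebra.single (q : G) (1 : k)) ≤ V ⊓ LinearMap.ker π :=
      Submodule.span_le.2 <| by
        rintro _ ⟨q, rfl⟩
        exact ⟨hV _ v.2 _ q.2, congrFun hv q⟩
    obtain ⟨hwV, hwπ⟩ := hsub hw
    have h1 : π w = ⟨w, hwV, hfix⟩ := Submodule.projectionOnto_apply_left hc ⟨w, hwV, hfix⟩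
    rw [show π w = 0 from hwπ] at h1
    exact hw0 (congrArg Subtype.val h1).symm
  refine (LinearMap.finrank_le_finrank_of_injective hinj).trans ?_
  rw [Module.finrank_pi_fintype, Finset.sum_const, Finset.card_univ, smul_eq_mul, Nat.card_eq_fintype_card]

theorem finrank_fixR_le (P : Subgroup G) : finrank k (fixR (G := G) k P) ≤ P.index := by
  classical
  letI := Fintype.ofFinite (G ⧸ P)
  let Θ : fixR (G := G) k P →ₗ[k] (G ⧸ P → k) :=
    { toFun := fun x c => fn (x : MonoidAlgebra k G) c.out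
      map_add' := fun a b => funext fun c => by simp
      map_smul' := fun c a => funext fun d => by simp }
  have hinj : Function.Injective Θ := fun x y h => Subtype.ext (fn_ext fun g => by
    obtain ⟨q, hq⟩ := QuotientGroup.mk_out_eq_mul P g
    have key : ∀ z : fixR (G := G) k P, fn (z : MonoidAlgebra k G) g =
        fn (z : MonoidAlgebra k G) (g : G ⧸ P).out := fun z => by
      conv_rhs => rw [hq]
      conv_lhs => rw [← z.2 (q : G)⁻¹ (P.inv_mem q.2), fn_mul_single, inv_inv, mul_one]
    rw [key x, key y]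
    exact congrFun h _)
  refine (LinearMap.finrank_le_finrank_of_injective hinj).trans ?_
  rw [Module.finrank_fintype_fun_eq_card, Subgroup.index, Nat.card_eq_fintype_card]

/-- The right ideal of an idempotent is projective: its dimension is a multiple of `|P|`. -/
theorem card_dvd_finrank_corner {P : Subgroup G} (hP : IsPGroup p P) {e : MonoidAlgebra k G}
    (hee : e * e = e) : Nat.card P ∣ finrank k (corner k e) := by
  haveI : FiniteDimensional k (MonoidAlgebra k G) := Module.Finite.equiv (fnEquiv k G).symm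
  set V₁ := corner k e
  set V₂ := corner k (1 - e)
  have hst : ∀ (d : MonoidAlgebra k G), ∀ x ∈ corner k d, ∀ q ∈ P,
      x * MonoidAlgebra.single q (1 : k) ∈ corner k d := fun d x hx q _ => by
    rw [mem_corner] at hx ⊢
    rw [← mul_assoc, hx]
  have h1 := finrank_le_mul_fixR (k := k) hP V₁ (hst e)
  have h2 := finrank_le_mul_fixR (k := k) hP V₂ (hst (1 - e))
  have hdisj : V₁ ⊓ V₂ = ⊥ := (Submodule.eq_bot_iff _).2 fun x hx => by
    have a : e * x = x := hx.1
    have b : (1 - e) * x = x := hx.2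
    rw [sub_mul, one_mul, a, sub_self] at b
    exact b.symm
  have hsup : V₁ ⊔ V₂ = ⊤ := eq_top_iff.2 fun x _ => Submodule.mem_sup.2
    ⟨e * x, show e * (e * x) = e * x by rw [← mul_assoc, hee],
      (1 - e) * x, show (1 - e) * ((1 - e) * x) = (1 - e) * x by
        rw [← mul_assoc, sub_mul, one_mul, mul_sub, mul_one, hee, sub_self, sub_zero],
      by rw [sub_mul, one_mul, add_sub_cancel]⟩
  have h3 := Submodule.finrank_sup_add_finrank_inf_eq V₁ V₂
  rw [hdisj, hsup, finrank_bot, finrank_top, (fnEquiv k G).finrank_eq,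
    Module.finrank_fintype_fun_eq_card, ← Nat.card_eq_fintype_card, ← P.card_mul_index] at h3
  have h4 := Submodule.finrank_sup_add_finrank_inf_eq (V₁ ⊓ fixR k P) (V₂ ⊓ fixR k P)
  rw [show V₁ ⊓ fixR k P ⊓ (V₂ ⊓ fixR k P) = ⊥ from
    le_bot_iff.1 (hdisj ▸ inf_le_inf inf_le_left inf_le_left), finrank_bot] at h4
  have h5 := (Submodule.finrank_mono (sup_le inf_le_right inf_le_right :
    V₁ ⊓ fixR k P ⊔ V₂ ⊓ fixR k P ≤ fixR k P)).trans (finrank_fixR_le (k := k) P)
  have h6 : Nat.card P * (finrank k (V₁ ⊓ fixR k P : Submodule k (MonoidAlgebra k G)) +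
      finrank k (V₂ ⊓ fixR k P : Submodule k (MonoidAlgebra k G))) ≤ Nat.card P * P.index :=
    Nat.mul_le_mul_left _ (by omega)
  rw [mul_add] at h6
  exact ⟨_, (by omega : finrank k V₁ = Nat.card P * finrank k (V₁ ⊓ fixR k P : Submodule k (MonoidAlgebra k G)))⟩

end Projective

section Block

variable {G : Type u} [Group G] [Fintype G] {M : Ideal AlgInt} {p : ℕ}
variable {B : Set (IrrCharacter G)}

theorem omega_single (φ χ : IrrCharacter G) [Decidable (χ = φ)] :
    omega (χ : G → ℂ) (blockElem ({φ} : Set (IrrCharacter G))) = if χ = φ then 1 else 0 := by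
  classical
  rw [omega_blockElem]
  by_cases h : χ = φ <;> simp [h]

/-- The span of the idempotents of the members of a set. -/
noncomputable def idemSpan (B : Set (IrrCharacter G)) : Submodule ℂ (G → ℂ) :=
  Submodule.span ℂ ((fun χ : IrrCharacter G => fn (blockElem ({χ} : Set (IrrCharacter G)))) '' B)

theorem fn_mem_idemSpan {Y : MonoidAlgebra ℂ G} (hY : IsCentralFn Y) (hEY : blockElem B * Y = Y) :
    fn Y ∈ idemSpan B := by
  classical
  set S := Finset.univ.filter (· ∈ B) with hS
  have key : (∑ χ ∈ S, omega (χ : G → ℂ) Y • blockElem ({χ} : Set (IrrCharacter G))) = Y := by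
    refine eq_of_omega_eq (IsCentralFn.sum _ _ fun χ _ => (isCentralFn_blockElem _).smul _) hY
      fun θ => ?_
    conv_rhs => rw [← hEY, omega_mul θ (isCentralFn_blockElem B), omega_blockElem]
    rw [omega_sum]
    simp only [omega_smul, omega_single, mul_ite, mul_one, mul_zero, Finset.sum_ite_eq, hS,
      Finset.mem_filter, Finset.mem_univ, true_and, ite_mul, one_mul, zero_mul]
  have h2 : fn Y = ∑ χ ∈ S, omega (χ : G → ℂ) Y • fn (blockElem ({χ} : Set (IrrCharacter G))) := by
    funext g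
    conv_lhs => rw [← key]
    simp [fn_sum, Finset.sum_apply]
  rw [h2]
  exact Submodule.sum_mem _ fun χ hχ =>
    Submodule.smul_mem _ _ (Submodule.subset_span ⟨χ, (Finset.mem_filter.1 hχ).2, rfl⟩)

theorem finrank_idemSpan_le : finrank ℂ (idemSpan B) ≤ Nat.card B := by
  classical
  unfold idemSpan
  refine (finrank_span_le_card _).trans ?_
  rw [← Set.ncard_eq_toFinset_card', Nat.card_coe_set_eq]
  exact Set.ncard_image_le (Set.toFinite B)

theorem exists_lift (hM : IsPModular p M) (hB : IsPBlock M B) {v : MonoidAlgebra (Res M) G}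
    (hv : IsCentralFn v) (hev : red M (blockElem B) * v = v) :
    ∃ Y, IsCentralFn Y ∧ Integral M Y ∧ blockElem B * Y = Y ∧ red M Y = v := by
  set σ := Function.surjInv (IsLocalRing.residue_surjective (R := place M))
  set Y₀ : MonoidAlgebra ℂ G := ofFn fun g => ((σ (fn v g) : place M) : ℂ)
  have hY₀c : IsCentralFn Y₀ := isCentralFn_ofFn fun g h => by rw [hv g h]
  have hY₀i : Integral M Y₀ := fun g => by rw [fn_ofFn]; exact (σ (fn v g)).2
  have hred : red M Y₀ = v := fn_ext fun g => by
    rw [fn_red, fn_ofFn, res_coe]; exact Function.surjInv_eq _ _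
  refine ⟨blockElem B * Y₀, (isCentralFn_blockElem B).mul hY₀c,
    (integral_blockElem hM hB).mul hY₀i, by rw [← mul_assoc, blockElem_mul_self], ?_⟩
  rw [red_mul (integral_blockElem hM hB) hY₀i, hred, hev]

theorem finrank_center_le (hM : IsPModular p M) (hB : IsPBlock M B) :
    finrank (Res M) (corner (Res M) (red M (blockElem B)) ⊓
      (Subalgebra.center (Res M) (MonoidAlgebra (Res M) G)).toSubmodule :
        Submodule (Res M) (MonoidAlgebra (Res M) G)) ≤ Nat.card B := by
  refine le_trans ?_ (finrank_idemSpan_le (B := B))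
  rw [← finrank_redSub M (idemSpan B), ((fnEquiv (Res M) G).submoduleMap _).finrank_eq]
  refine Submodule.finrank_mono ?_
  rintro _ ⟨v, ⟨hv1, hv2⟩, rfl⟩
  have hvc : IsCentralFn v := fun g h => by
    have h1 := congrArg (fun a => fn a (h * g))
      ((Subalgebra.mem_center_iff (R := Res M)).1 hv2 (MonoidAlgebra.single h (1 : Res M)))
    simp only [fn_single_mul, fn_mul_single, one_mul, mul_one, inv_mul_cancel_left] at h1
    exact h1.symm
  obtain ⟨Y, hY, hYi, hEY, hYv⟩ := exists_lift hM hB hvc hv1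
  refine ⟨fn Y, fn_mem_idemSpan hY hEY, fun g => hYi g, ?_⟩
  show resVec M (fn Y) = fn v
  rw [← hYv]
  exact funext fun g => (fn_red Y g).symm

/-- Restriction of a function to the regular elements. -/
noncomputable def regRestrict (p : ℕ) (K : Type*) [CommRing K] : (G → K) →ₗ[K] (G → K) where
  toFun x := fun g => if p ∣ orderOf g then 0 else x g
  map_add' a b := funext fun g => by by_cases h : p ∣ orderOf g <;> simp [h]
  map_smul' c a := funext fun g => by by_cases h : p ∣ orderOf g <;> simp [h]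

theorem regRestrict_apply {K : Type*} [CommRing K] (x : G → K) (g : G) :
    regRestrict p K x g = if p ∣ orderOf g then 0 else x g := rfl

theorem finrank_regRestrict_le [Fact p.Prime] (hM : IsPModular p M) (hB : IsPBlock M B)
    (hl : blockRank p B = 1) : finrank ℂ ((idemSpan B).map (regRestrict p ℂ)) ≤ 1 := by
  classical
  obtain ⟨φ, d, -, hreg, -⟩ := exists_of_blockRank_one hM hB hl
  set b : G → ℂ := regRestrict p ℂ fun g => conj (φ g)
  refine le_trans (Submodule.finrank_mono (t := Submodule.span ℂ {b}) ?_)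
    ((finrank_span_le_card _).trans (by simp))
  rw [idemSpan, Submodule.map_span, Submodule.span_le]
  rintro _ ⟨_, ⟨χ, hχ, rfl⟩, rfl⟩
  refine Submodule.mem_span_singleton.2
    ⟨(Nat.card G : ℂ)⁻¹ * ((χ : G → ℂ) 1 * (d χ : ℂ)), funext fun g => ?_⟩
  simp only [Pi.smul_apply, b, regRestrict_apply, smul_eq_mul]
  by_cases hg : p ∣ orderOf g
  · simp [hg]
  · rw [if_neg hg, if_neg hg, fn_blockElem, blockCoeff, finsum_mem_singleton, hreg χ hχ g hg, map_mul,
      Complex.conj_natCast]
    ring

/-- The traces of two representations of the block are linearly dependent. -/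
theorem exists_trace_dep [Fact p.Prime] (hM : IsPModular p M) (hB : IsPBlock M B) (hl : blockRank p B = 1)
    (d₁ d₂ : ℕ) (φ₁ : MonoidAlgebra (Res M) G →ₐ[Res M] Matrix (Fin d₁) (Fin d₁) (Res M))
    (φ₂ : MonoidAlgebra (Res M) G →ₐ[Res M] Matrix (Fin d₂) (Fin d₂) (Res M))
    (h₁ : φ₁ (red M (blockElem B)) = 1) (h₂ : φ₂ (red M (blockElem B)) = 1) :
    ∃ a b : Res M, (a ≠ 0 ∨ b ≠ 0) ∧
      ∀ x, a * Matrix.trace (φ₁ x) + b * Matrix.trace (φ₂ x) = 0 := by
  classical
  haveI := charP_res hM
  haveI : CharP (MonoidAlgebra (Res M) G) p :=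
    charP_of_injective_algebraMap (algebraMap (Res M) (MonoidAlgebra (Res M) G)).injective p
  have htr : ∀ {d : ℕ} (φ : MonoidAlgebra (Res M) G →ₐ[Res M] Matrix (Fin d) (Fin d) (Res M))
      (x : MonoidAlgebra (Res M) G), Matrix.trace (φ x) =
        ∑ g, fn x g * Matrix.trace (φ (MonoidAlgebra.single g (1 : Res M))) := by
    intro d φ x
    conv_lhs => rw [eq_sum_single x, map_sum, Matrix.trace_sum]
    refine Finset.sum_congr rfl fun g _ => ?_
    rw [show MonoidAlgebra.single g (fn x g) = fn x g • MonoidAlgebra.single g (1 : Res M) by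
      rw [MonoidAlgebra.smul_single, smul_eq_mul, mul_one], map_smul, Matrix.trace_smul, smul_eq_mul]
  have huni : ∀ {d : ℕ} (φ : MonoidAlgebra (Res M) G →ₐ[Res M] Matrix (Fin d) (Fin d) (Res M))
      (g : G), ∃ s : G, ¬ p ∣ orderOf s ∧ Matrix.trace (φ (MonoidAlgebra.single g (1 : Res M))) =
        Matrix.trace (φ (MonoidAlgebra.single s (1 : Res M))) ∧
        (∀ x y : G, x * y = g → Commute x y → (∃ j : ℕ, orderOf x = p ^ j) → ¬ p ∣ orderOf y →
          s = y) := by
    intro d φ g
    obtain ⟨x, y, hxy, hc, ⟨j, hj⟩, hy⟩ := exists_isPPart' (Fact.out : p.Prime) g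
    refine ⟨y, hy, ?_, fun x' y' hxy' hc' hj' hy' => ?_⟩
    · rw [← sub_eq_zero, ← Matrix.trace_sub, ← map_sub]
      have hnil : IsNilpotent (MonoidAlgebra.single g (1 : Res M) - MonoidAlgebra.single y 1) := by
        have hsp : MonoidAlgebra.single g (1 : Res M) - MonoidAlgebra.single y 1 =
            (MonoidAlgebra.single x 1 - 1) * MonoidAlgebra.single y 1 := by
          rw [sub_mul, one_mul, MonoidAlgebra.single_mul_single, one_mul, hxy]
        rw [hsp]
        refine Commute.isNilpotent_mul_right ?_ ⟨p ^ j, ?_⟩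
        · refine Commute.sub_left ?_ (Commute.one_left _)
          show _ * _ = _ * _
          rw [MonoidAlgebra.single_mul_single, MonoidAlgebra.single_mul_single, hc.eq]
        · rw [sub_pow_char_pow_of_commute _ _ (Commute.one_right _), one_pow, MonoidAlgebra.single_pow,
            one_pow, ← hj, pow_orderOf_eq_one, ← MonoidAlgebra.one_def, sub_self]
      exact (Matrix.isNilpotent_trace_of_isNilpotent (hnil.map φ)).eq_zero
    · have := IsPPart.eq (Fact.out : p.Prime) ⟨y, hxy, hc, ⟨j, hj⟩, hy⟩ ⟨y', hxy', hc', hj', hy'⟩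
      rw [← mul_left_cancel_iff (a := x'), hxy', ← hxy, this]
  set r₁ := regRestrict (G := G) p (Res M)
  set W' := (idemSpan B).map (regRestrict p ℂ) with hW'
  -- the coefficient vector of a representation
  have hvec : ∀ {d : ℕ} (φ : MonoidAlgebra (Res M) G →ₐ[Res M] Matrix (Fin d) (Fin d) (Res M)),
      φ (red M (blockElem B)) = 1 →
      r₁ (fun g => Matrix.trace (φ (MonoidAlgebra.single g⁻¹ (1 : Res M)))) ∈ redSub M W' := by
    intro d φ hφ
    set F := fun g => Matrix.trace (φ (MonoidAlgebra.single g (1 : Res M))) with hF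
    have hcls : ∀ g h : G, F (h * g * h⁻¹) = F g := fun g h => by
      simp only [hF]
      rw [show MonoidAlgebra.single (h * g * h⁻¹) (1 : Res M) =
        MonoidAlgebra.single h 1 * MonoidAlgebra.single g 1 * MonoidAlgebra.single h⁻¹ 1 by
          simp [MonoidAlgebra.single_mul_single], map_mul, map_mul, Matrix.trace_mul_comm, ← mul_assoc,
        ← map_mul φ, MonoidAlgebra.single_mul_single, inv_mul_cancel, one_mul, ← MonoidAlgebra.one_def,
        map_one, one_mul]
    set v : MonoidAlgebra (Res M) G := ofFn fun g => F g⁻¹ with hv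
    have hvc : IsCentralFn v := isCentralFn_ofFn fun g h => by
      rw [show (h * g * h⁻¹)⁻¹ = h * g⁻¹ * h⁻¹ by group, hcls]
    have hev : red M (blockElem B) * v = v := fn_ext fun g => by
      rw [fn_mul, hv, fn_ofFn]
      have h1 : F g⁻¹ = Matrix.trace (φ (MonoidAlgebra.single g⁻¹ (1 : Res M) * red M (blockElem B))) := by
        rw [map_mul, hφ, mul_one]
      rw [h1, htr φ (MonoidAlgebra.single g⁻¹ (1 : Res M) * red M (blockElem B))]
      refine Fintype.sum_equiv (Equiv.mulLeft g⁻¹) _ _ fun h => ?_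
      rw [fn_single_mul, one_mul, Equiv.coe_mulLeft, inv_inv, mul_inv_cancel_left]
      simp only [hF]
      rw [mul_inv_rev, inv_inv]
    obtain ⟨Y, hY, hYi, hEY, hYv⟩ := exists_lift hM hB hvc hev
    refine ⟨regRestrict p ℂ (fn Y), ⟨fn Y, fn_mem_idemSpan hY hEY, rfl⟩, fun g => ?_, funext fun g => ?_⟩
    · rw [regRestrict_apply]
      split_ifs
      · exact zero_mem _
      · exact hYi g
    · show res M _ = _
      rw [regRestrict_apply, regRestrict_apply]
      split_ifs
      · exact res_zero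
      · rw [← fn_red Y g, hYv, hv, fn_ofFn]
  have hdim : finrank (Res M) (redSub M W') ≤ 1 := by
    rw [finrank_redSub]
    exact finrank_regRestrict_le hM hB hl
  obtain ⟨b₀, hb₀⟩ := finrank_le_one_iff.1 hdim
  obtain ⟨c₁, hc₁⟩ := hb₀ ⟨_, hvec φ₁ h₁⟩
  obtain ⟨c₂, hc₂⟩ := hb₀ ⟨_, hvec φ₂ h₂⟩
  obtain ⟨a, b, hab, hzero⟩ : ∃ a b : Res M, (a ≠ 0 ∨ b ≠ 0) ∧ a * c₁ + b * c₂ = 0 := by
    by_cases h : c₁ = 0
    · exact ⟨1, 0, Or.inl one_ne_zero, by rw [h]; ring⟩
    · exact ⟨c₂, -c₁, Or.inr (neg_ne_zero.2 h), by ring⟩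
  refine ⟨a, b, hab, fun x => ?_⟩
  rw [htr φ₁ x, htr φ₂ x, Finset.mul_sum, Finset.mul_sum, ← Finset.sum_add_distrib]
  refine Finset.sum_eq_zero fun g _ => ?_
  obtain ⟨s, hs, e₁, hs₁⟩ := huni φ₁ g
  obtain ⟨s', -, e₂, hs₂⟩ := huni φ₂ g
  obtain ⟨x', y', hxy', hc', hj', hy'⟩ := exists_isPPart' (Fact.out : p.Prime) g
  obtain rfl : s = s' := (hs₁ x' y' hxy' hc' hj' hy').trans (hs₂ x' y' hxy' hc' hj' hy').symm
  have k₁ := congrFun (congrArg Subtype.val hc₁) s⁻¹
  have k₂ := congrFun (congrArg Subtype.val hc₂) s⁻¹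
  simp only [SetLike.val_smul, Pi.smul_apply, smul_eq_mul, r₁, regRestrict_apply, orderOf_inv, if_neg hs,
    inv_inv] at k₁ k₂
  rw [e₁, e₂, ← k₁, ← k₂]
  linear_combination (fn x g * (b₀ : G → Res M) s⁻¹) * hzero

/-- The order of a defect group divides the dimension of the basic algebra. -/
theorem exists_pow_defect_dvd [Fact p.Prime] (hM : IsPModular p M) (hB : IsPBlock M B)
    (hl : blockRank p B = 1) : ∃ f, 0 < f ∧ p ^ blockDefect p B ∣ f ∧ Nat.card B ≤ p ^ blockDefect p B ∧
      ((Nat.card B ≤ 4 ∨ ∃ z, red M (blockElem B) * z = z ∧ (∀ a, z * a = a * z) ∧ IsNilpotent z ∧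
        z ^ (Nat.card B - 1) ≠ 0) → f ≤ Nat.card B) ∧ (Nat.card B ≤ 5 → f ≤ 8) := by
  classical
  have hp : p.Prime := Fact.out
  haveI := isAlgClosed_res M
  haveI := charP_res hM
  haveI : FiniteDimensional (Res M) (MonoidAlgebra (Res M) G) :=
    Module.Finite.equiv (fnEquiv (Res M) G).symm
  set S := Finset.univ.filter (· ∈ B) with hS
  have hcardS : S.card = Nat.card B := by
    rw [hS, Nat.card_eq_fintype_card, Fintype.card_subtype]
  obtain ⟨φ, d, -, hreg, hsq⟩ := exists_of_blockRank_one hM hB hl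
  rw [finsum_mem_eq_sum_of_inter_support_eq _ (t := S) (by simp [hS])] at hsq
  obtain ⟨χ₀, hχ₀, h0⟩ := exists_height_zero hM hB
  obtain ⟨gc, hgc⟩ := exists_defectClass hM hB
  set a := (Nat.card G).factorization p
  set δ := blockDefect p B with hδ
  have hp1 : IsPRegular p (1 : G) := by
    unfold IsPRegular
    rw [orderOf_one]
    exact hp.not_dvd_one
  have hdeg : ∀ χ ∈ B, (deg (χ : G → ℂ) : ℂ) = d χ * φ 1 := fun χ hχ => by
    rw [← irr_apply_one_eq_deg, hreg χ hχ 1 hp1]
  have hdpos : ∀ χ ∈ B, 0 < d χ := fun χ hχ => Nat.pos_of_ne_zero fun h => (deg_irr_pos χ).ne' (by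
    have := hdeg χ hχ
    rw [h, Nat.cast_zero, zero_mul, Nat.cast_eq_zero] at this
    exact this)
  have hkδ : Nat.card B ≤ p ^ δ := by
    rw [← hcardS, ← hsq, Finset.card_eq_sum_ones]
    exact Finset.sum_le_sum fun χ hχ => Nat.one_le_pow _ _ (hdpos χ (Finset.mem_filter.1 hχ).2)
  have hdim := finrank_corner_red hM hB
  rw [Nat.cast_inj] at hdim
  set eb := red M (blockElem B) with heb
  have hEi : Integral M (blockElem B) := integral_blockElem hM hB
  have hee : eb * eb = eb := by rw [heb, ← red_mul hEi hEi, blockElem_mul_self]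
  have hne0 : eb ≠ 0 := by
    intro h
    have h0' : corner (Res M) eb = ⊥ := (Submodule.eq_bot_iff _).2 fun x hx => by
      rw [mem_corner, h, zero_mul] at hx
      exact hx.symm
    rw [h0', finrank_bot, eq_comm, Finset.sum_eq_zero_iff] at hdim
    have := hdim χ₀ (by simp [hχ₀])
    exact (deg_irr_pos χ₀).ne' (pow_eq_zero_iff two_ne_zero |>.1 this)
  obtain ⟨n, f, hn, hf, hfle, hfive, hnnf, e₁, hee₁, he₁⟩ := exists_structure_both eb
    (isCentralFn_blockElem B).red.comm hee hne0
    ((LinearMap.proj 1).comp (fnEquiv (Res M) G).toLinearMap)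
    (fun x y => fn_mul_one_symm x y)
    (fun x h => fn_ext fun g => by
      have := h (MonoidAlgebra.single g⁻¹ 1)
      change fn (x * MonoidAlgebra.single g⁻¹ 1) 1 = 0 at this
      rwa [fn_mul_single, inv_inv, one_mul, mul_one, ← fn_zero g] at this)
    (exists_trace_dep hM hB hl)
  obtain ⟨P⟩ : Nonempty (Sylow p G) := inferInstance
  have hdvd : p ^ a ∣ n * f := by
    rw [← he₁, ← P.card_eq_multiplicity]
    exact card_dvd_finrank_corner P.isPGroup' hee₁
  have hsum : n * n * f * d χ₀ ^ 2 = p ^ δ * deg (χ₀ : G → ℂ) ^ 2 := by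
    apply Nat.cast_injective (R := ℂ)
    rw [hnnf] at hdim
    rw [hdim, ← hsq]
    push_cast
    rw [Finset.sum_mul, Finset.sum_mul]
    refine Finset.sum_congr rfl fun χ hχ => ?_
    rw [hdeg χ (Finset.mem_filter.1 hχ).2, hdeg χ₀ hχ₀]
    ring
  have hmem : (deg (χ₀ : G → ℂ)).factorization p ∈
      (fun χ : IrrCharacter G => (charDegree (χ : G → ℂ)).factorization p) '' B := ⟨χ₀, hχ₀, rfl⟩
  have hle := Nat.sInf_le hmem
  have hidx : sInf ((fun χ : IrrCharacter G => (charDegree (χ : G → ℂ)).factorization p) '' B) ≤ a := by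
    rw [sInf_deg_eq hM hB hgc]
    exact (Nat.factorization_le_iff_dvd Subgroup.index_ne_zero_of_finite Nat.card_pos.ne').2
      (Subgroup.index_dvd_card _) p
  have hδv : δ + (deg (χ₀ : G → ℂ)).factorization p = a := by
    unfold blockHeight at h0
    rw [charDegree_eq_deg] at h0
    rw [hδ, blockDefect]
    omega
  have hd0 := (hdpos χ₀ hχ₀).ne'
  have hfac := congrArg (fun m : ℕ => m.factorization p) hsum
  simp only [Nat.factorization_mul (mul_ne_zero (mul_ne_zero hn.ne' hn.ne') hf.ne') (pow_ne_zero _ hd0),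
    Nat.factorization_mul (mul_ne_zero hn.ne' hn.ne') hf.ne', Nat.factorization_mul hn.ne' hn.ne',
    Nat.factorization_mul (pow_ne_zero _ hp.ne_zero) (pow_ne_zero _ (deg_irr_pos χ₀).ne'),
    Nat.factorization_pow, Finsupp.add_apply, Finsupp.smul_apply, smul_eq_mul,
    Nat.Prime.factorization_self hp, mul_one] at hfac
  have hva := (hp.pow_dvd_iff_le_factorization (mul_ne_zero hn.ne' hf.ne')).1 hdvd
  rw [Nat.factorization_mul hn.ne' hf.ne', Finsupp.add_apply] at hva
  have hδf : p ^ δ ∣ f := (hp.pow_dvd_iff_le_factorization hf.ne').2 (by omega)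
  refine ⟨f, hf, hδf, hkδ, fun hk => ?_, fun h5 => hfive ((finrank_center_le hM hB).trans h5)⟩
  exact (hfle (hk.imp (finrank_center_le hM hB).trans fun ⟨z, h1, h2, h3, h4⟩ => ⟨z, h1, h2, h3, fun h =>
    h4 (pow_eq_zero_of_le (Nat.sub_le_sub_right (finrank_center_le hM hB) 1) h)⟩)).trans
    (finrank_center_le hM hB)

/-- The order of a defect group, for a small or uniserial centre. -/
theorem pow_defect_eq_gen [Fact p.Prime] (hM : IsPModular p M) (hB : IsPBlock M B)
    (hl : blockRank p B = 1) (hk : Nat.card B ≤ 4 ∨ ∃ z, red M (blockElem B) * z = z ∧ (∀ a, z * a = a * z) ∧ IsNilpotent z ∧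
      z ^ (Nat.card B - 1) ≠ 0) : p ^ blockDefect p B = Nat.card B := by
  obtain ⟨f, hf, hδf, hkδ, hle, -⟩ := exists_pow_defect_dvd hM hB hl
  exact le_antisymm ((Nat.le_of_dvd hf hδf).trans (hle hk)) hkδ

/-- The order of a defect group. -/
theorem pow_defect_eq [Fact p.Prime] (hM : IsPModular p M) (hB : IsPBlock M B)
    (hl : blockRank p B = 1) (hk : Nat.card B ≤ 4) : p ^ blockDefect p B = Nat.card B :=
  pow_defect_eq_gen hM hB hl (Or.inl hk)

end Block

end Cfsg.Lib.Blocks.RankOneSmall
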